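import Cfsg.Agent.Lib.Fus.OneOddOrder.Equiv

/-!
# Cliques of commuting members: products, counting and fixed cliques
-/

namespace Cfsg.Agent.Fus.OneOddOrder

universe u

variable {G : Type u} [Group G] [Finite G] {D : Set G} {p : ℕ}

/-- The members commuting with `x`. -/
def cl (D : Set G) (x : G) : Set G := {d ∈ D | Commute d x}

/-- The members mapping the clique of `a` to the clique of `b`. -/
def J (D : Set G) (a b : G) : Set G := {u ∈ D | Commute (u * a * u) b}

omit [Finite G] in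
theorem iterate_conj_eq {S : Set G} {g : G} (hS : ∀ d ∈ S, g * d * g⁻¹ ∈ S) (n : ℕ) (d : S) :
    (((fun d : S => (⟨g * d * g⁻¹, hS d d.2⟩ : S))^[n] d : S) : G) = g ^ n * d * (g ^ n)⁻¹ := by
  induction n with
  | zero => simp
  | succ n ih =>
    rw [Function.iterate_succ_apply']
    show g * _ * g⁻¹ = _
    rw [ih, pow_succ']
    group

/-- Counting fixed points of a map of order dividing `p`. -/
theorem modEq_fixed {α : Type*} [Finite α] [hp : Fact p.Prime] (f : α → α) (hf : f^[p] = id) :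
    Nat.card α ≡ Nat.card {a : α // f a = a} [MOD p] := by
  classical
  have := Fintype.ofFinite α
  let F : Function.End α := f
  have h2 : ∀ n : ℕ, F ^ n = (f^[n] : α → α) := by
    intro n
    induction n with
    | zero => rfl
    | succ n ih => rw [pow_succ, ih, Function.iterate_succ]; rfl
  have h1 : F ^ p ^ 1 = 1 := by rw [pow_one, h2, hf]; rfl
  have h3 := Equiv.Perm.card_fixedPoints_modEq h1
  rw [Nat.card_eq_fintype_card, Nat.card_eq_fintype_card]
  refine h3.trans ?_
  rw [Fintype.card_congr (Equiv.refl _)]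
  rfl

/-- Conjugation by an element of order dividing `p` on a finite set. -/
theorem modEq_fixed_conj [hp : Fact p.Prime] {S : Set G} {g : G} (hg : g ^ p = 1)
    (hS : ∀ d ∈ S, g * d * g⁻¹ ∈ S) :
    S.ncard ≡ {d ∈ S | Commute g d}.ncard [MOD p] := by
  have h1 := modEq_fixed (p := p) (fun d : S => (⟨g * d * g⁻¹, hS d d.2⟩ : S)) (by
    funext d
    exact Subtype.ext (by rw [iterate_conj_eq hS, hg]; simp))
  rw [← Nat.card_coe_set_eq, ← Nat.card_coe_set_eq]
  refine h1.trans (congrArg (· % p) (Nat.card_congr ?_))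
  refine (Equiv.subtypeEquivRight fun d => ?_).trans
    ((Equiv.subtypeSubtypeEquivSubtypeInter (fun d => d ∈ S) (fun d => Commute g d)).trans
      (Equiv.refl _))
  rw [Subtype.ext_iff]
  exact mul_inv_eq_iff_eq_mul

namespace Cliqued

variable (C : Cliqued D p)
include C

theorem congr_left {a a' b : G} (ha : a ∈ D) (ha' : a' ∈ D) (hb : b ∈ D) (h : Commute a a') :
    Commute a b ↔ Commute a' b :=
  ⟨fun h1 => C.trans a' ha' a ha b hb h.symm h1, fun h1 => C.trans a ha a' ha' b hb h h1⟩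

theorem fork_of {x c y : G} (hx : x ∈ D) (hc : c ∈ D) (hy : y ∈ D) (hne : x ≠ c)
    (hxc : Commute x c) (hxy : ¬ Commute x y) : Fork D x c y :=
  ⟨hx, hc, hy, hne, hxc, hxy, fun h => hxy ((C.congr_left hx hc hy hxc).mpr h)⟩

theorem conj_sim {w a b : G} (hw : w ∈ D) (h : Commute a b) : Commute (w * a * w) (w * b * w) := by
  have := (Commute.conj_iff w).mpr h
  rwa [C.hyp.inv' hw] at this

theorem move_ne {x y : G} (hx : x ∈ D) (hy : y ∈ D) (hn : ¬ Commute x y) :
    ¬ Commute (x * y * x) y := by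
  intro hc
  have h := C.hyp
  have h1 := (commute_iff_sq (h.sq (h.conjM (h.sq hx) hy)) (h.sq hy)).mp hc
  have h2 : (x * y) ^ 4 = 1 := by
    rw [← h1]; simp only [pow_succ, pow_zero, one_mul, mul_assoc]
  have h3 : orderOf (x * y) ∣ 4 := orderOf_dvd_of_pow_eq_one h2
  rw [h.order hx hy hn] at h3
  have := Nat.le_of_dvd (by norm_num) h3
  have := h.five
  have : p = 4 ∨ p = 5 := by omega
  omega

theorem not_commute_move {x y : G} (hx : x ∈ D) (hn : ¬ Commute x y) :
    ¬ Commute x (x * y * x) := by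
  intro hc
  apply hn
  have h1 := C.conj_sim hx hc
  rwa [C.hyp.sq hx, one_mul,
    show x * (x * y * x) * x = (x * x) * y * (x * x) by group, C.hyp.sq hx, one_mul, mul_one] at h1

/-- The product of two commuting distinct members is a member. -/
theorem prod_mem {x c : G} (hx : x ∈ D) (hc : c ∈ D) (hne : x ≠ c) (hxc : Commute x c) :
    x * c ∈ D := by
  have h := C.hyp
  by_contra hz
  have hzz : (x * c) * (x * c) = 1 := (commute_iff_sq (h.sq hx) (h.sq hc)).mp hxc
  let K : Subgroup G :=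
    { carrier := {g | ∀ y ∈ D, Commute (g * y * g⁻¹) y}
      one_mem' := fun y _ => by simp
      mul_mem' := fun {g g'} hg hg' y hy => by
        have h1 := hg _ (h.conj g' y hy)
        refine C.trans _ (h.conj _ y hy) _ (h.conj g' y hy) y hy ?_ (hg' y hy)
        rwa [show g * (g' * y * g'⁻¹) * g⁻¹ = g * g' * y * (g * g')⁻¹ by group] at h1
      inv_mem' := fun {g} hg y hy => by
        have h1 := (hg _ (h.conj g⁻¹ y hy)).symm
        rwa [show g * (g⁻¹ * y * g⁻¹⁻¹) * g⁻¹ = y by group] at h1 }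
  have hKn : K.Normal := ⟨fun g hg a y hy => by
    have h1 := (Commute.conj_iff a).mpr (hg _ (h.conj a⁻¹ y hy))
    rwa [show a * (g * (a⁻¹ * y * a⁻¹⁻¹) * g⁻¹) * a⁻¹ = a * g * a⁻¹ * y * (a * g * a⁻¹)⁻¹ by group,
      show a * (a⁻¹ * y * a⁻¹⁻¹) * a⁻¹ = y by group] at h1⟩
  have hzK : x * c ∈ K := by
    intro y hy
    rw [inv_eq_self hzz]
    by_cases hxy : Commute x y
    · have hcy : Commute c y := (C.congr_left hx hc hy hxc).mp hxy
      rw [(hxy.mul_left hcy).eq, mul_assoc, hzz, mul_one]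
    · exact ((C.toMinimal.dichotomy (C.fork_of hx hc hy hne hxc hxy)).resolve_left hz).1
  set A := Subgroup.closure (cl D x) with hA
  have hAc : ∀ a ∈ A, ∀ b ∈ A, Commute a b := by
    have h1 : A ≤ Subgroup.centralizer (cl D x) := by
      rw [hA, Subgroup.closure_le]
      exact fun a ha => Subgroup.mem_centralizer_iff.mpr fun b hb =>
        (C.trans b hb.1 x hx a ha.1 hb.2 ha.2.symm).eq
    have h2 : A ≤ Subgroup.centralizer (A : Set G) := by
      rw [hA, Subgroup.closure_le]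
      intro a ha
      exact Subgroup.mem_centralizer_iff.mpr fun b hb =>
        (Subgroup.mem_centralizer_iff.mp (h1 hb) a ha).symm
    exact fun a ha b hb => (Subgroup.mem_centralizer_iff.mp (h2 ha) b hb).symm
  have hA2 : ∀ a ∈ A, a * a = 1 := by
    intro a ha
    induction ha using Subgroup.closure_induction with
    | mem d hd => exact h.sq hd.1
    | one => exact one_mul 1
    | mul a b ha hb iha ihb => rw [(hAc b hb a ha).mul_mul_mul_comm a b, iha, ihb, one_mul]
    | inv a _ iha => rw [← mul_inv_rev, iha, inv_one]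
  have hAK : ∀ g ∈ K, ∀ a ∈ A, g * a * g⁻¹ ∈ A := by
    intro g hg a ha
    have h1 : A ≤ A.comap (MulAut.conj g).toMonoidHom := by
      rw [hA, Subgroup.closure_le]
      intro d hd
      exact Subgroup.subset_closure
        ⟨h.conj g d hd.1, C.trans _ (h.conj g d hd.1) d hd.1 x hx (hg d hd.1) hd.2⟩
    exact h1 ha
  have hN : (A.subgroupOf K).Normal := ⟨fun a ha g => hAK g g.2 a ha⟩
  have hP : IsPGroup 2 (A.subgroupOf K) := fun a =>
    ⟨1, Subtype.ext (Subtype.ext (by
      show ((a : K) : G) ^ (2 ^ 1) = 1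
      rw [pow_one]; exact pow_two_sq (hA2 _ a.2)))⟩
  have hzA : x * c ∈ A := mul_mem (Subgroup.subset_closure ⟨hx, Commute.refl x⟩)
    (Subgroup.subset_closure ⟨hc, hxc.symm⟩)
  have h1 : (⟨x * c, hzK⟩ : K) ∈ Cfsg.pCore 2 K := Cfsg.Agent.Grp.le_pCore hN hP hzA
  have h2 := Cfsg.Agent.Grp.pCore_map_le (p := 2) K (Subgroup.mem_map_of_mem K.subtype h1)
  rw [C.core, Subgroup.mem_bot] at h2
  exact h.prod_ne_one hx hne h2

/-- The subgroup formed by a clique and the identity. -/
def elem {x : G} (hx : x ∈ D) : Subgroup G where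
  carrier := {g | g = 1 ∨ g ∈ cl D x}
  one_mem' := Or.inl rfl
  mul_mem' := by
    rintro a b (rfl | ha) hb
    · rw [one_mul]; exact hb
    · rcases hb with rfl | hb
      · rw [mul_one]; exact Or.inr ha
      · by_cases hab : a = b
        · left; rw [hab]; exact C.hyp.sq hb.1
        · exact Or.inr ⟨C.prod_mem ha.1 hb.1 hab (C.trans a ha.1 x hx b hb.1 ha.2 hb.2.symm),
            ha.2.mul_left hb.2⟩
  inv_mem' := by
    rintro a (rfl | ha)
    · exact Or.inl inv_one
    · rw [C.hyp.inv' ha.1]; exact Or.inr ha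

theorem gen3 {x c y : G} (hx : x ∈ D) (hc : c ∈ D) (hy : y ∈ D) (hne : x ≠ c)
    (hxc : Commute x c) (hxy : ¬ Commute x y) : Subgroup.closure {x, c, y} = ⊤ :=
  C.toMinimal.gen_of_mem (C.fork_of hx hc hy hne hxc hxy) (C.prod_mem hx hc hne hxc)

theorem cl_card {a b : G} (ha : a ∈ D) (hb : b ∈ D) : (cl D a).ncard = (cl D b).ncard := by
  obtain ⟨g, hg⟩ := C.conjAll a ha b hb
  have : cl D b = (fun d => g * d * g⁻¹) '' cl D a := by
    ext d
    constructor
    · rintro ⟨hd, hdb⟩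
      have e1 : g * (g⁻¹ * d * g) * g⁻¹ = d := by group
      refine ⟨g⁻¹ * d * g, ⟨?_, ?_⟩, e1⟩
      · have := C.hyp.conj g⁻¹ d hd
        rwa [inv_inv] at this
      · rw [← Commute.conj_iff g, e1, hg]; exact hdb
    · rintro ⟨e, he, rfl⟩
      exact ⟨C.hyp.conj g e he.1, hg ▸ (Commute.conj_iff g).mpr he.2⟩
  rw [this, Set.ncard_image_of_injective _ fun u v huv => mul_left_cancel (mul_right_cancel huv)]

theorem two_le_cl {a : G} (ha : a ∈ D) : 1 < (cl D a).ncard := by
  obtain ⟨c, hc, hne, hac⟩ := C.partner a ha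
  exact (Set.one_lt_ncard (Set.toFinite _)).mpr ⟨a, ⟨ha, Commute.refl a⟩, c, ⟨hc, hac.symm⟩, hne.symm⟩

theorem J_symm {a b u : G} (hu : u ∈ J D a b) : u ∈ J D b a := by
  refine ⟨hu.1, ?_⟩
  have h1 := (C.conj_sim hu.1 hu.2).symm
  rwa [show u * (u * a * u) * u = (u * u) * a * (u * u) by group, C.hyp.sq hu.1, one_mul,
    mul_one] at h1

theorem J_not {a b u : G} (hab : ¬ Commute a b) (hu : u ∈ J D a b) : ¬ Commute u a := by
  intro hc
  have h1 := hu.2
  rw [hc.eq, mul_assoc, C.hyp.sq hu.1, mul_one] at h1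
  exact hab h1

theorem J_congr {a a' b b' u : G} (ha : a ∈ D) (ha' : a' ∈ D) (hb : b ∈ D) (hb' : b' ∈ D)
    (haa : Commute a a') (hbb : Commute b b') (hu : u ∈ J D a b) : u ∈ J D a' b' := by
  have hd := C.hyp.conjM (C.hyp.sq hu.1) ha
  have hd' := C.hyp.conjM (C.hyp.sq hu.1) ha'
  exact ⟨hu.1, C.trans _ hd' _ hd b' hb' (C.conj_sim hu.1 haa.symm) (C.trans _ hd b hb b' hb' hu.2 hbb)⟩

theorem phi_inj {x u v : G} (hx : x ∈ D) (hu : u ∈ D) (hv : v ∈ D) (hun : ¬ Commute x u)
    (hvn : ¬ Commute x v) (he : u * x * u = v * x * v) : u = v := by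
  have h := C.hyp
  by_contra hne
  have hxw : Commute x (v * u) := by
    show x * (v * u) = (v * u) * x
    calc x * (v * u) = (v * v) * x * (v * u) := by rw [h.sq hv, one_mul]
      _ = v * (v * x * v) * u := by group
      _ = v * (u * x * u) * u := by rw [he]
      _ = v * u * x * (u * u) := by group
      _ = v * u * x := by rw [h.sq hu, mul_one]
  by_cases hvu : Commute v u
  · have hw := C.prod_mem hv hu (Ne.symm hne) hvu
    exact hun (C.trans x hx _ hw u hu hxw (hvu.mul_left (Commute.refl u)))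
  · exact hvn (h.line hx hv hu hvu hxw).1

theorem J_card {a b : G} (ha : a ∈ D) (hb : b ∈ D) (hab : ¬ Commute a b) :
    (J D a b).ncard = (cl D b).ncard := by
  have h := C.hyp
  let S : Set G := {d ∈ D | ¬ Commute a d}
  let φ : S → S := fun u => ⟨u.1 * a * u.1, h.conjM (h.sq u.2.1) ha, fun hc =>
    C.move_ne u.2.1 ha (fun h1 => u.2.2 h1.symm) hc.symm⟩
  have hφ : Function.Injective φ := fun u v he =>
    Subtype.ext (C.phi_inj ha u.2.1 v.2.1 u.2.2 v.2.2 (congrArg Subtype.val he))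
  have hsur : Function.Surjective φ := (Finite.injective_iff_surjective).mp hφ
  refine Set.ncard_congr (fun u _ => u * a * u) ?_ ?_ ?_
  · exact fun u hu => ⟨h.conjM (h.sq hu.1) ha, hu.2⟩
  · exact fun u v hu hv he => C.phi_inj ha hu.1 hv.1 (fun h1 => C.J_not hab hu h1.symm)
      (fun h1 => C.J_not hab hv h1.symm) he
  · intro d hd
    obtain ⟨u, hu⟩ := hsur ⟨d, hd.1, fun h1 => hab (C.trans a ha d hd.1 b hb h1 hd.2)⟩
    have hu' : u.1 * a * u.1 = d := congrArg Subtype.val hu
    exact ⟨u.1, ⟨u.2.1, by rw [hu']; exact hd.2⟩, hu'⟩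

/-- The product of two distinct members of one `J` has order `p` and fixes the first clique. -/
theorem J_pair {a b u v : G} (ha : a ∈ D) (hb : b ∈ D) (hab : ¬ Commute a b) (hu : u ∈ J D a b)
    (hv : v ∈ J D a b) (hne : u ≠ v) :
    ¬ Commute u v ∧ Commute ((u * v) * a * (u * v)⁻¹) a := by
  have h := C.hyp
  have hfix : Commute ((u * v) * a * (u * v)⁻¹) a := by
    rw [mul_inv_rev, h.inv' hu.1, h.inv' hv.1,
      show u * v * a * (v * u) = u * (v * a * v) * u by group]
    have h1 := C.conj_sim hu.1 hv.2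
    exact C.trans _ (h.conjM (h.sq hu.1) (h.conjM (h.sq hv.1) ha)) _ (h.conjM (h.sq hu.1) hb) a ha
      h1 (C.J_symm hu).2
  refine ⟨fun hc => ?_, hfix⟩
  have hw := C.prod_mem hu.1 hv.1 hne hc
  rw [h.inv' hw] at hfix
  have hwa : Commute (u * v) a := by
    by_contra hn
    exact C.move_ne hw ha hn hfix
  exact C.J_not hab hu (C.trans u hu.1 _ hw a ha ((Commute.refl u).mul_right hc) hwa)

/-- The common size of the cliques is divisible by `p`. -/
theorem dvd_cl {a : G} (ha : a ∈ D) : p ∣ (cl D a).ncard := by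
  have h := C.hyp
  have := Fact.mk h.prime
  obtain ⟨b, hb, hab⟩ := C.odd_one a ha
  obtain ⟨u, v, hu, hv, hne⟩ :=
    (Set.one_lt_ncard_iff (Set.toFinite _)).mp (C.J_card ha hb hab ▸ C.two_le_cl hb)
  obtain ⟨huv, hfix⟩ := C.J_pair ha hb hab hu hv hne
  have h1 := modEq_fixed_conj (p := p) (S := cl D a) (h.pow_p hu.1 hv.1 huv) (fun d hd =>
    ⟨h.conj _ d hd.1, C.trans _ (h.conj _ d hd.1) _ (h.conj _ a ha) a ha
      ((Commute.conj_iff _).mpr hd.2) hfix⟩)
  have h2 : {d ∈ cl D a | Commute (u * v) d} = ∅ := by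
    refine Set.eq_empty_iff_forall_notMem.mpr fun d hd => ?_
    have h3 := (h.line hd.1.1 hu.1 hv.1 huv hd.2.symm).1
    exact C.J_not hab hu (C.trans u hu.1 d hd.1.1 a ha h3.symm hd.1.2)
  rw [h2, Set.ncard_empty] at h1
  exact Nat.modEq_zero_iff_dvd.mp h1

/-- An element of order dividing `p` fixing two cliques and centralising a member of the first is trivial. -/
theorem fix_trivial {g x c : G} (hx : x ∈ D) (hc : c ∈ D) (hxc : ¬ Commute x c) (hg : g ^ p = 1)
    (hgx : Commute g x) (hgc : Commute (g * c * g⁻¹) c) : g = 1 := by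
  have h := C.hyp
  have := Fact.mk h.prime
  set d := x * c * x with hd
  have hdD : d ∈ D := h.conjM (h.sq hx) hc
  have hcd : ¬ Commute c d := fun h1 => C.move_ne hx hc hxc h1.symm
  have hgx' : g * x * g⁻¹ = x := by rw [hgx.eq, mul_inv_cancel_right]
  have hgd : Commute (g * d * g⁻¹) d := by
    have h1 := C.conj_sim hx hgc
    have h2 : g * d * g⁻¹ = x * (g * c * g⁻¹) * x := by
      calc g * d * g⁻¹ = (g * x * g⁻¹) * (g * c * g⁻¹) * (g * x * g⁻¹) := by rw [hd]; group
        _ = x * (g * c * g⁻¹) * x := by rw [hgx']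
    rw [h2]; exact h1
  have hJ : ∀ u ∈ J D c d, g * u * g⁻¹ ∈ J D c d := by
    intro u hu
    have h1 : g * u * g⁻¹ ∈ J D (g * c * g⁻¹) (g * d * g⁻¹) := by
      refine ⟨h.conj g u hu.1, ?_⟩
      have h2 := (Commute.conj_iff g).mpr hu.2
      rwa [show g * (u * c * u) * g⁻¹ = g * u * g⁻¹ * (g * c * g⁻¹) * (g * u * g⁻¹) by group] at h2
    exact C.J_congr (h.conj g c hc) hc (h.conj g d hdD) hdD hgc hgd h1
  have hxJ : x ∈ J D c d := ⟨hx, Commute.refl d⟩
  have two : ∀ S : Set G, p ∣ S.ncard → (∀ u ∈ S, g * u * g⁻¹ ∈ S) → x ∈ S →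
      ∃ v ∈ S, Commute g v ∧ v ≠ x := by
    intro S hS hinvS hxS
    have h1 := modEq_fixed_conj (p := p) hg hinvS
    have h2 : p ∣ {u ∈ S | Commute g u}.ncard :=
      Nat.modEq_zero_iff_dvd.mp (h1.symm.trans (Nat.modEq_zero_iff_dvd.mpr hS))
    have h3 : 0 < {u ∈ S | Commute g u}.ncard :=
      (Set.ncard_pos (Set.toFinite _)).mpr ⟨x, hxS, hgx⟩
    have h4 : 1 < {u ∈ S | Commute g u}.ncard :=
      h.prime.one_lt.trans_le (Nat.le_of_dvd h3 h2)
    obtain ⟨v, hv, hvne⟩ := Set.exists_ne_of_one_lt_ncard h4 x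
    exact ⟨v, hv.1, hv.2, hvne⟩
  obtain ⟨v, hvJ, hgv, hvx⟩ := two _ (C.J_card hc hdD hcd ▸ C.dvd_cl hdD) hJ hxJ
  have hxv : ¬ Commute x v := by
    intro hxv
    have he := C.prod_mem hx hvJ.1 (Ne.symm hvx) hxv
    have h1 : Commute ((x * v) * c * (x * v)) c := by
      have h2 := C.conj_sim hx hvJ.2
      rw [show x * d * x = (x * x) * c * (x * x) by rw [hd]; group, h.sq hx, one_mul, mul_one] at h2
      rwa [show x * v * c * (x * v) = x * (v * c * v) * x by nth_rewrite 2 [hxv.eq]; group]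
    have h3 : Commute (x * v) c := by
      by_contra hn
      exact C.move_ne he hc hn h1
    exact hxc (C.trans x hx _ he c hc ((Commute.refl x).mul_right hxv) h3)
  obtain ⟨x', hx', hgx'', hx'x⟩ := two _ (C.dvd_cl hx) (fun u hu =>
    ⟨h.conj g u hu.1, hgx' ▸ (Commute.conj_iff g).mpr hu.2⟩) ⟨hx, Commute.refl x⟩
  have hz : g ∈ Subgroup.center G := by
    refine mem_center_of_commute_gens (C.gen3 hx hx'.1 hvJ.1 (Ne.symm hx'x) hx'.2.symm hxv) ?_
    rintro _ (rfl | rfl | rfl)
    exacts [hgx, hgx'', hgv]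
  exact no_central_p C.ih h C.gen C.core (C.fork_of hx hx'.1 hvJ.1 (Ne.symm hx'x) hx'.2.symm hxv) hz hg

/-- Some product of two members of order `p` fixes no clique. -/
theorem exists_no_fixed {x : G} (hx : x ∈ D) :
    ∃ u ∈ D, ¬ Commute x u ∧ ∀ d ∈ D, ¬ Commute ((x * u) * d * (x * u)⁻¹) d := by
  classical
  have h := C.hyp
  by_contra hcon
  push_neg at hcon
  have := Fintype.ofFinite G
  set k := (cl D x).ncard with hk
  set s : Finset G := Finset.univ.filter (fun d => d ∈ D ∧ ¬ Commute x d) with hs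
  have hkey : s.card * k ≤ s.card * (k - 1) := by
    refine Finset.card_mul_le_card_mul (fun u d => u ∈ J D d (x * d * x) ∧ u ≠ x) ?_ ?_
    · intro u hu
      obtain ⟨-, huD, hxu⟩ := Finset.mem_filter.mp hu
      obtain ⟨d₀, hd₀, hfix⟩ := hcon u huD hxu
      rw [mul_inv_rev, h.inv' huD, h.inv' hx,
        show x * u * d₀ * (u * x) = x * (u * d₀ * u) * x by group] at hfix
      have hu0 : Commute (u * d₀ * u) (x * d₀ * x) := by
        have h1 := C.conj_sim hx hfix
        rwa [show x * (x * (u * d₀ * u) * x) * x = (x * x) * (u * d₀ * u) * (x * x) by group,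
          h.sq hx, one_mul, mul_one] at h1
      have hxd : ¬ Commute x d₀ := by
        intro h1
        rw [show x * d₀ * x = d₀ by rw [h1.eq, mul_assoc, h.sq hx, mul_one]] at hu0
        exact C.move_ne huD hd₀
          (fun h2 => hxu (C.trans x hx d₀ hd₀ u huD h1 h2.symm)) hu0
      have hsub : cl D d₀ ⊆ ↑(s.bipartiteAbove (fun u d => u ∈ J D d (x * d * x) ∧ u ≠ x) u) := by
        intro d hd
        rw [Finset.mem_coe, Finset.mem_bipartiteAbove, Finset.mem_filter]
        exact ⟨⟨Finset.mem_univ _, hd.1, fun h1 => hxd (C.trans x hx d hd.1 d₀ hd₀ h1 hd.2)⟩,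
          C.J_congr hd₀ hd.1 (h.conjM (h.sq hx) hd₀) (h.conjM (h.sq hx) hd.1) hd.2.symm
            (C.conj_sim hx hd.2.symm) ⟨huD, hu0⟩, fun h1 => hxu (h1 ▸ Commute.refl x)⟩
      have := Set.ncard_le_ncard hsub (Set.toFinite _)
      rwa [Set.ncard_coe_finset, C.cl_card hd₀ hx] at this
    · intro d hd
      obtain ⟨-, hdD, hxd⟩ := Finset.mem_filter.mp hd
      have hsub : (↑(s.bipartiteBelow (fun u d => u ∈ J D d (x * d * x) ∧ u ≠ x) d) : Set G) ⊆
          J D d (x * d * x) \ {x} := by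
        intro u hu
        rw [Finset.mem_coe, Finset.mem_bipartiteBelow] at hu
        exact hu.2
      have hxJ : x ∈ J D d (x * d * x) := ⟨hx, Commute.refl _⟩
      have h1 := Set.ncard_le_ncard hsub (Set.toFinite _)
      rwa [Set.ncard_coe_finset, Set.ncard_sdiff_singleton_of_mem hxJ,
        C.J_card hdD (h.conjM (h.sq hx) hdD) (fun h2 => C.move_ne hx hdD hxd h2.symm),
        C.cl_card (h.conjM (h.sq hx) hdD) hx] at h1
  obtain ⟨b, hb, hxb⟩ := C.odd_one x hx
  have hs0 : 0 < s.card := Finset.card_pos.mpr ⟨b, Finset.mem_filter.mpr ⟨Finset.mem_univ _, hb, hxb⟩⟩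
  have hk1 : 1 < k := C.two_le_cl hx
  have := Nat.le_of_mul_le_mul_left hkey hs0
  omega

end Cliqued

end Cfsg.Agent.Fus.OneOddOrder
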