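import Cfsg.Agent.Lib.Fus.OneOddOrder.Twins

/-!
# Commutation is an equivalence relation on `D` in a minimal configuration
-/

namespace Cfsg.Agent.Fus.OneOddOrder

universe u

variable {G : Type u} [Group G] [Finite G] {D : Set G} {p : ℕ}

/-- The facts about cliques of commuting members used in the counting part. -/
structure Cliqued (D : Set G) (p : ℕ) : Prop extends Minimal D p where
  trans : ∀ a ∈ D, ∀ b ∈ D, ∀ e ∈ D, Commute a b → Commute b e → Commute a e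
  conjAll : ∀ a ∈ D, ∀ b ∈ D, ∃ g : G, g * a * g⁻¹ = b
  partner : ∀ a ∈ D, ∃ c ∈ D, c ≠ a ∧ Commute a c
  odd_one : ∀ a ∈ D, ∃ b ∈ D, ¬ Commute a b

theorem Minimal.cliqued (M : Minimal D p) {x₀ c₀ y₀ : G} (f : Fork D x₀ c₀ y₀) : Cliqued D p := by
  have h := M.hyp
  have twin0 : ∀ d ∈ D, Commute d x₀ → (∃ b ∈ D, ¬ Commute b x₀ ∧ ¬ Commute d b) →
      ∀ e ∈ D, Commute e x₀ ↔ Commute e d := by
    intro d hd hdx ⟨b, hb, hbx, hdb⟩ e he
    by_cases hdx0 : d = x₀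
    · rw [hdx0]
    · exact M.twins ⟨f.hx, hd, hb, Ne.symm hdx0, hdx.symm, fun hh => hbx hh.symm, hdb⟩ he
  have noR : ∀ d ∈ D, Commute d x₀ → ∃ b ∈ D, ¬ Commute b x₀ ∧ ¬ Commute d b := by
    intro r hr hrx
    by_contra hR
    set S := {d ∈ D | Commute d x₀ → ∃ b ∈ D, ¬ Commute b x₀ ∧ ¬ Commute d b} with hS
    have hSD : S ⊆ D := fun d hd => hd.1
    have hRc : ∀ g ∈ D, g ∉ S → ∀ s ∈ S, Commute g s := by
      intro g hg hgS s ⟨hs, hsw⟩
      have hgw : Commute g x₀ ∧ ¬ ∃ b ∈ D, ¬ Commute b x₀ ∧ ¬ Commute g b := by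
        by_contra hh
        exact hgS ⟨hg, fun h1 => by by_contra h2; exact hh ⟨h1, h2⟩⟩
      by_cases hsx : Commute s x₀
      · exact (twin0 s hs hsx (hsw hsx) g hg).mp hgw.1
      · by_contra hn
        exact hgw.2 ⟨s, hs, hsx, hn⟩
    set K := Subgroup.closure S with hK
    have hmap : ∀ g ∈ D, ∀ a ∈ K, g * a * g⁻¹ ∈ K := by
      intro g hg a ha
      by_cases hgS : g ∈ S
      · have := Subgroup.subset_closure (k := S) hgS
        exact mul_mem (mul_mem this ha) (Subgroup.inv_mem _ this)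
      · have hle : K ≤ Subgroup.centralizer {g} := by
          rw [hK, Subgroup.closure_le]
          intro s hs
          exact Subgroup.mem_centralizer_singleton_iff.mpr (hRc g hg hgS s hs).symm.eq
        rw [← (Subgroup.mem_centralizer_singleton_iff.mp (hle ha)), mul_inv_cancel_right]
        exact ha
    have hKn : K.Normal := by
      rw [← Subgroup.normalizer_eq_top_iff, eq_top_iff, ← M.gen, Subgroup.closure_le]
      intro g hg
      rw [SetLike.mem_coe, Subgroup.mem_normalizer_iff]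
      refine fun a => ⟨hmap g hg a, fun ha => ?_⟩
      have h1 := hmap g hg _ ha
      rwa [h.inv' hg, show g * (g * a * g) * g = (g * g) * a * (g * g) by group, h.sq hg, one_mul,
        mul_one] at h1
    have hrS : r ∉ S := fun hh => hR (hh.2 hrx)
    have hKne : K ≠ ⊤ := by
      intro htop
      refine not_central_of_mem h M.gen M.core hr fun d _ => ?_
      have := mem_center_of_commute_gens (hK ▸ htop) (g := r) fun a ha => hRc r hr hrS a ha
      exact (Subgroup.mem_center_iff.mp this d).symm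
    have hmem : ∀ d ∈ D, (¬ Commute d x₀ ∨ ∃ b ∈ D, ¬ Commute b x₀ ∧ ¬ Commute d b) → d ∈ K :=
      fun d hd hh => Subgroup.subset_closure ⟨hd, fun h1 => hh.resolve_left fun h2 => h2 h1⟩
    have hy : ¬ Commute y₀ x₀ := fun hh => f.ox hh.symm
    have hz := fork_sub M.ih h hSD hKne f
      (hmem _ f.hx (Or.inr ⟨y₀, f.hy, hy, f.ox⟩)) (hmem _ f.hc (Or.inr ⟨y₀, f.hy, hy, f.oc⟩))
      (hmem _ f.hy (Or.inl hy))
    exact h.prod_ne_one f.hx f.ne (coreOf_eq_one_of_normal M.core (Subgroup.closure S) hz)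
  have tw : ∀ d ∈ D, Commute d x₀ → ∀ e ∈ D, Commute e x₀ ↔ Commute e d :=
    fun d hd hdx => twin0 d hd hdx (noR d hd hdx)
  have conj0 : ∀ a ∈ D, ∃ g : G, g * x₀ * g⁻¹ = a := by
    intro a ha
    by_cases hax : Commute a x₀
    · obtain ⟨i, hi⟩ := h.conj_of_odd f.hx f.hy f.ox
      have hay : ¬ Commute y₀ a := fun hh => f.ox ((tw a ha hax y₀ f.hy).mpr hh).symm
      obtain ⟨j, hj⟩ := h.conj_of_odd f.hy ha hay
      refine ⟨(a * y₀) ^ j * (y₀ * x₀) ^ i, ?_⟩
      calc (a * y₀) ^ j * (y₀ * x₀) ^ i * x₀ * ((a * y₀) ^ j * (y₀ * x₀) ^ i)⁻¹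
          = (a * y₀) ^ j * ((y₀ * x₀) ^ i * x₀ * ((y₀ * x₀) ^ i)⁻¹) * ((a * y₀) ^ j)⁻¹ := by group
        _ = a := by rw [hi, hj]
    · obtain ⟨i, hi⟩ := h.conj_of_odd f.hx ha fun hh => hax hh.symm
      exact ⟨_, hi⟩
  refine { M with trans := ?_, conjAll := ?_, partner := ?_, odd_one := ?_ }
  · intro a ha b hb e he hab hbe
    obtain ⟨g, hg⟩ := conj0 b hb
    have ha' := h.conj g⁻¹ a ha
    have he' := h.conj g⁻¹ e he
    rw [inv_inv] at ha' he'
    have e1 : ∀ t, g * (g⁻¹ * t * g) * g⁻¹ = t := fun t => by group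
    rw [← hg, ← e1 a, Commute.conj_iff] at hab
    rw [← hg, ← e1 e, Commute.conj_iff] at hbe
    rw [← e1 a, ← e1 e, Commute.conj_iff]
    exact (tw _ he' hbe.symm _ ha').mp hab
  · intro a ha b hb
    obtain ⟨g, hg⟩ := conj0 a ha
    obtain ⟨g', hg'⟩ := conj0 b hb
    exact ⟨g' * g⁻¹, by rw [← hg, ← hg']; group⟩
  · intro a ha
    obtain ⟨g, hg⟩ := conj0 a ha
    refine ⟨g * c₀ * g⁻¹, h.conj g c₀ f.hc, ?_, ?_⟩
    · rw [← hg]
      exact fun hh => f.ne (mul_left_cancel (mul_right_cancel hh)).symm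
    · rw [← hg]; exact (Commute.conj_iff g).mpr f.com
  · intro a ha
    obtain ⟨g, hg⟩ := conj0 a ha
    refine ⟨g * y₀ * g⁻¹, h.conj g y₀ f.hy, ?_⟩
    rw [← hg, Commute.conj_iff]; exact f.ox

end Cfsg.Agent.Fus.OneOddOrder
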