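import Cfsg.Agent.Lib.Fus.OneOddOrder.Setup
import Cfsg.Agent.Lib.Grp.Baer

/-!
# Transfers of forks to quotients and subgroups for the induction
-/

namespace Cfsg.Agent.Fus.OneOddOrder

universe u

/-- The induction hypothesis: no forks in smaller groups with trivial 2-core. -/
def NoForkBelow (p n : ℕ) : Prop :=
  ∀ (H : Type u) [Group H] [Finite H] (E : Set H), Nat.card H < n → Hyp E p →
    Subgroup.closure E = ⊤ → Cfsg.pCore 2 H = ⊥ → ∀ x c y, ¬ Fork E x c y

variable {G : Type u} [Group G] [Finite G] {D : Set G} {p : ℕ}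

theorem quot_hyp (h : Hyp D p) (N : Subgroup G) [N.Normal] :
    Hyp ((QuotientGroup.mk' N '' D) \ {1}) p := by
  refine ⟨h.prime, h.five, ?_, ?_, ?_⟩
  · rintro _ ⟨⟨d, hd, rfl⟩, h1⟩
    exact ⟨by rw [← map_mul, h.sq hd, map_one], h1⟩
  · rintro g _ ⟨⟨d, hd, rfl⟩, h1⟩
    obtain ⟨a, rfl⟩ := QuotientGroup.mk'_surjective N g
    refine ⟨⟨a * d * a⁻¹, h.conj a d hd, by simp only [map_mul, map_inv]⟩, ?_⟩
    rw [Set.mem_singleton_iff, conj_eq_one_iff]
    exact h1
  · rintro _ ⟨⟨a, ha, rfl⟩, -⟩ _ ⟨⟨b, hb, rfl⟩, -⟩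
    rcases h.dich a ha b hb with hc | ho
    · exact Or.inl (hc.map _)
    · by_cases h1 : QuotientGroup.mk' N (a * b) = 1
      · left
        rw [map_mul] at h1
        show _ * _ = _ * _
        have hb' : QuotientGroup.mk' N b * QuotientGroup.mk' N b = 1 := by
          rw [← map_mul, h.sq hb, map_one]
        have ha' : QuotientGroup.mk' N a = QuotientGroup.mk' N b := by
          rw [eq_inv_of_mul_eq_one_left h1, inv_eq_self hb']
        rw [ha']
      · right
        rw [← map_mul]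
        have := h.prime
        have := Fact.mk this
        refine orderOf_eq_prime ?_ h1
        rw [← map_pow, ← ho, pow_orderOf_eq_one, map_one]

theorem quot_gen (hgen : Subgroup.closure D = ⊤) (N : Subgroup G) [N.Normal] :
    Subgroup.closure ((QuotientGroup.mk' N '' D) \ {1}) = ⊤ := by
  have h1 : Subgroup.closure (QuotientGroup.mk' N '' D) = ⊤ := by
    rw [← MonoidHom.map_closure, hgen,
      Subgroup.map_top_of_surjective _ (QuotientGroup.mk'_surjective N)]
  refine top_le_iff.mp (h1 ▸ ?_)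
  rw [Subgroup.closure_le]
  intro q hq
  by_cases h2 : q = 1
  · rw [h2]; exact one_mem _
  · exact Subgroup.subset_closure ⟨hq, h2⟩

/-- If `N` contains no element of order `p`, a fork maps to a fork unless `x * c ∈ N`. -/
theorem quot_fork (h : Hyp D p) (N : Subgroup G) [N.Normal]
    (hN : ∀ a ∈ D, ∀ b ∈ D, ¬ Commute a b → (a * b) * (a * b) ∉ N) {x c y : G}
    (f : Fork D x c y) (hz : x * c ∉ N) :
    Fork ((QuotientGroup.mk' N '' D) \ {1})
      (QuotientGroup.mk' N x) (QuotientGroup.mk' N c) (QuotientGroup.mk' N y) := by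
  have key : ∀ a ∈ D, ∀ b ∈ D, ¬ Commute a b →
      ¬ Commute (QuotientGroup.mk' N a) (QuotientGroup.mk' N b) := by
    intro a ha b hb hn hc
    have hc' := (commute_iff_sq (by rw [← map_mul, h.sq ha, map_one])
      (by rw [← map_mul, h.sq hb, map_one])).mp hc
    rw [← map_mul, ← map_mul] at hc'
    exact hN a ha b hb hn ((QuotientGroup.eq_one_iff _).mp hc')
  have hne : ∀ a ∈ D, ∀ b ∈ D, ¬ Commute a b → QuotientGroup.mk' N a ≠ 1 := by
    intro a ha b hb hn h1
    exact key a ha b hb hn (by rw [h1]; exact Commute.one_left _)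
  refine ⟨⟨⟨x, f.hx, rfl⟩, hne x f.hx y f.hy f.ox⟩, ⟨⟨c, f.hc, rfl⟩, hne c f.hc y f.hy f.oc⟩,
    ⟨⟨y, f.hy, rfl⟩, hne y f.hy x f.hx fun hc => f.ox hc.symm⟩, ?_, f.com.map _,
    key x f.hx y f.hy f.ox, key c f.hc y f.hy f.oc⟩
  intro he
  apply hz
  rw [← QuotientGroup.eq_one_iff]
  show QuotientGroup.mk' N (x * c) = 1
  rw [map_mul, he, ← map_mul, h.sq f.hc, map_one]

theorem fork_not_mem (h : Hyp D p) {N : Subgroup G} (hN : IsPGroup 2 N) {a b : G}
    (ha : a ∈ D) (hb : b ∈ D) (hn : ¬ Commute a b) : (a * b) * (a * b) ∉ N := by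
  intro hm
  refine h.sq_ne (h.order ha hb hn) (eq_one_of_two_group hN hm h.odd ?_)
  rw [(Commute.refl (a * b)).mul_pow, h.pow_p ha hb hn, one_mul]

/-- In a group within range of the induction, a fork pair has product in the 2-core. -/
theorem fork_mem_core {n : ℕ} (ih : NoForkBelow.{u} p n) (hn : Nat.card G < n) (h : Hyp D p)
    (hgen : Subgroup.closure D = ⊤) {x c y : G} (f : Fork D x c y) :
    x * c ∈ Cfsg.pCore 2 G := by
  have hNn : (Cfsg.pCore 2 G).Normal := Cfsg.Agent.Grp.pCore_isNormal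
  have hP : IsPGroup 2 (Cfsg.pCore 2 G) := Cfsg.Agent.Grp.pCore_isPGroup
  by_contra hz
  have hcore : Cfsg.pCore 2 (G ⧸ Cfsg.pCore 2 G) = ⊥ := by
    refine sSup_eq_bot.mpr fun K ⟨hKn, hKp⟩ => ?_
    have hker : IsPGroup 2 (QuotientGroup.mk' (Cfsg.pCore 2 G)).ker := by
      rwa [QuotientGroup.ker_mk']
    have hle : K.comap (QuotientGroup.mk' (Cfsg.pCore 2 G)) ≤ Cfsg.pCore 2 G :=
      Cfsg.Agent.Grp.le_pCore inferInstance (hKp.comap_of_ker_isPGroup _ hker)
    rw [eq_bot_iff]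
    intro q hq
    obtain ⟨g, rfl⟩ := QuotientGroup.mk'_surjective (Cfsg.pCore 2 G) q
    exact (QuotientGroup.eq_one_iff g).mpr (hle hq)
  have hcard : Nat.card (G ⧸ Cfsg.pCore 2 G) ≤ Nat.card G :=
    Nat.card_le_card_of_surjective _ (QuotientGroup.mk'_surjective _)
  refine ih _ _ (hcard.trans_lt hn) (quot_hyp h _) (quot_gen hgen _) hcore _ _ _
    (quot_fork h _ (fun a ha b hb hn => fork_not_mem h hP ha hb hn) f hz)

theorem card_lt_of_ne_top {H : Subgroup G} (hH : H ≠ ⊤) : Nat.card H < Nat.card G :=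
  lt_of_le_of_ne H.card_le_card_group fun he => hH (Subgroup.card_eq_iff_eq_top H |>.mp he)

/-- The 2-core of a subgroup, inside the ambient group. -/
def coreOf (H : Subgroup G) : Subgroup G := (Cfsg.pCore 2 H).map H.subtype

theorem coreOf_pgroup (H : Subgroup G) : IsPGroup 2 (coreOf H) :=
  (Cfsg.Agent.Grp.pCore_isPGroup (G := H)).map _

theorem coreOf_conj {H : Subgroup G} {g q : G} (hg : g ∈ H) (hq : q ∈ coreOf H) :
    g * q * g⁻¹ ∈ coreOf H := by
  obtain ⟨a, ha, rfl⟩ := hq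
  exact ⟨⟨g, hg⟩ * a * ⟨g, hg⟩⁻¹,
    (Cfsg.Agent.Grp.pCore_isNormal (G := H)).conj_mem a ha ⟨g, hg⟩, rfl⟩

theorem coreOf_conjD (h : Hyp D p) {H : Subgroup G} {d q : G} (hd : d ∈ D) (hdH : d ∈ H)
    (hq : q ∈ coreOf H) : d * q * d ∈ coreOf H := by
  have := coreOf_conj hdH hq
  rwa [h.inv' hd] at this

theorem coreOf_eq_one_of_normal (hO : Cfsg.pCore 2 G = ⊥) (H : Subgroup G) [H.Normal] {q : G}
    (hq : q ∈ coreOf H) : q = 1 := by
  have := Cfsg.Agent.Grp.pCore_map_le (p := 2) H hq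
  rwa [hO, Subgroup.mem_bot] at this

/-- Forks inside a proper subgroup generated by members give products in its 2-core. -/
theorem fork_sub (ih : NoForkBelow.{u} p (Nat.card G)) (h : Hyp D p) {S : Set G} (hS : S ⊆ D)
    (hne : Subgroup.closure S ≠ ⊤) {x c y : G} (f : Fork D x c y)
    (hx : x ∈ Subgroup.closure S) (hc : c ∈ Subgroup.closure S) (hy : y ∈ Subgroup.closure S) :
    x * c ∈ coreOf (Subgroup.closure S) := by
  set H := Subgroup.closure S with hH
  have hc' : ∀ a b : H, Commute (a : G) b → Commute a b := fun a b hab => Subtype.ext hab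
  have hE : Hyp (Subtype.val ⁻¹' D : Set H) p := by
    refine ⟨h.prime, h.five, fun d hd => ⟨Subtype.ext (h.sq hd), fun he => h.ne_one hd ?_⟩,
      fun g d hd => h.conj g d hd, fun a ha b hb => ?_⟩
    · rw [he]; rfl
    · rcases h.dich a ha b hb with hab | ho
      · exact Or.inl (hc' a b hab)
      · right
        rwa [← Subgroup.orderOf_coe, Subgroup.coe_mul]
  have hEgen : Subgroup.closure (Subtype.val ⁻¹' D : Set H) = ⊤ := by
    refine top_le_iff.mp ((Subgroup.closure_closure_coe_preimage (k := S)).ge.trans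
      (Subgroup.closure_mono fun a ha => hS ha))
  have fH : Fork (Subtype.val ⁻¹' D : Set H) ⟨x, hx⟩ ⟨c, hc⟩ ⟨y, hy⟩ :=
    ⟨f.hx, f.hc, f.hy, fun he => f.ne (congrArg Subtype.val he), hc' _ _ f.com,
      fun hh => f.ox (hh.map H.subtype), fun hh => f.oc (hh.map H.subtype)⟩
  exact ⟨⟨x, hx⟩ * ⟨c, hc⟩, fork_mem_core ih (card_lt_of_ne_top hne) hE hEgen fH, rfl⟩

/-- A central element of order dividing `p` is trivial in a counterexample. -/
theorem no_central_p (ih : NoForkBelow.{u} p (Nat.card G)) (h : Hyp D p)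
    (hgen : Subgroup.closure D = ⊤) (hO : Cfsg.pCore 2 G = ⊥) {x c y : G} (f : Fork D x c y)
    {g : G} (hgc : g ∈ Subgroup.center G) (hgp : g ^ p = 1) : g = 1 := by
  by_contra hg1
  set N := Subgroup.zpowers g with hN
  have hle : N ≤ Subgroup.center G := Subgroup.zpowers_le.mpr hgc
  have hNn : N.Normal := ⟨fun a ha b => by
    rw [Subgroup.mem_center_iff.mp (hle ha) b, mul_inv_cancel_right]; exact ha⟩
  have hNp : ∀ a ∈ N, a ^ p = 1 := by
    rintro _ ⟨i, rfl⟩
    rw [← zpow_natCast, ← zpow_mul, mul_comm, zpow_mul, zpow_natCast, hgp, one_zpow]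
  have hcard : Nat.card (G ⧸ N) < Nat.card G := by
    rw [Subgroup.card_eq_card_quotient_mul_card_subgroup N]
    have h1 : 1 < Nat.card N := by
      rw [Nat.card_zpowers]
      have h2 : orderOf g ≠ 1 := fun he => hg1 (orderOf_eq_one_iff.mp he)
      have := orderOf_pos g
      omega
    exact lt_mul_of_one_lt_right Nat.card_pos h1
  have hodd : ∀ a ∈ N, a * a = 1 → a = 1 := fun a ha h2 => by
    rw [← pow_odd_of_sq h2 h.odd]; exact hNp a ha
  have hnot : ∀ a ∈ D, ∀ b ∈ D, ¬ Commute a b → (a * b) * (a * b) ∉ N := by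
    intro a ha b hb hn hm
    have h1 : a * ((a * b) * (a * b)) = ((a * b) * (a * b)) * a :=
      Subgroup.mem_center_iff.mp (hle hm) a
    have hr := h.order ha hb hn
    have h2 : ((a * b) * (a * b)) * ((a * b) * (a * b)) = 1 := by
      have h3 : a * ((a * b) * (a * b)) * a = ((a * b) * (a * b))⁻¹ := by
        simp only [mul_inv_rev, h.inv' ha, h.inv' hb]
        calc a * (a * b * (a * b)) * a = (a * a) * (b * a * (b * a)) := by group
          _ = b * a * (b * a) := by rw [h.sq ha, one_mul]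
      rw [h1, mul_assoc, h.sq ha, mul_one] at h3
      exact eq_inv_iff_mul_eq_one.mp h3
    exact h.sq_ne hr (hodd _ hm h2)
  have hz : x * c ∉ N := fun hm => h.prod_ne_one f.hx f.ne
    (hodd _ hm ((commute_iff_sq (h.sq f.hx) (h.sq f.hc)).mp f.com))
  have hq : Hyp ((QuotientGroup.mk' N '' D) \ {1}) p :=
    quot_hyp h N
  have hmem := fork_mem_core ih hcard hq (quot_gen hgen N) (quot_fork h N hnot f hz)
  set Q := Cfsg.pCore 2 (G ⧸ N) with hQ
  have hQn : Q.Normal := Cfsg.Agent.Grp.pCore_isNormal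
  set K := Q.comap (QuotientGroup.mk' N) with hK
  have hKn : K.Normal := inferInstance
  have hQnil : Group.IsNilpotent Q := (Cfsg.Agent.Grp.pCore_isPGroup (G := G ⧸ N)).isNilpotent
  let φ : K →* Q := ((QuotientGroup.mk' N).comp K.subtype).codRestrict Q fun a => a.2
  have hφ : φ.ker ≤ Subgroup.center K := by
    intro a ha
    have ha' : (a : G) ∈ N := (QuotientGroup.eq_one_iff _).mp (congrArg Subtype.val ha)
    rw [Subgroup.mem_center_iff]
    exact fun b => Subtype.ext (Subgroup.mem_center_iff.mp (hle ha') b)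
  have hKnil : Group.IsNilpotent K := Subgroup.isNilpotent_of_ker_le_center φ hφ
  have hzK : x * c ∈ K := by
    rw [hK, Subgroup.mem_comap, map_mul]
    exact hmem
  have hzF := Cfsg.Agent.Grp.le_fittingSubgroup hKn hKnil hzK
  have hzz : (x * c) * (x * c) = 1 := (commute_iff_sq (h.sq f.hx) (h.sq f.hc)).mp f.com
  have hzp : IsPGroup 2 (Subgroup.zpowers (x * c)) := by
    rintro ⟨a, ⟨i, rfl⟩⟩
    refine ⟨1, Subtype.ext ?_⟩
    show ((x * c) ^ i) ^ (2 ^ 1) = 1
    rw [pow_one, ← zpow_natCast, ← zpow_mul, mul_comm, zpow_mul, zpow_natCast, pow_two_sq hzz,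
      one_zpow]
  have := Fact.mk Nat.prime_two
  have h1 := Cfsg.Agent.Grp.mem_pCore_of_mem_fitting hzF hzp
  rw [hO, Subgroup.mem_bot] at h1
  exact h.prod_ne_one f.hx f.ne h1

end Cfsg.Agent.Fus.OneOddOrder
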