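import Cfsg.Agent.Lib.Fus.OneOddOrder.NoFork
import Cfsg.Agent.S0205
import Cfsg.Prelude.Def_SporadicB

/-!
# A class of involutions with at most two product orders

With trivial solvable radical such a generating class is a class of 3-transpositions.
-/

namespace Cfsg.Agent.Fus.OneOddOrder

universe u

variable {G : Type u} [Group G] [Finite G] {D : Set G}

theorem core_bot (hsol : ∀ N : Subgroup G, N.Normal → Group.IsSolvable ↥N → N = ⊥) :
    Cfsg.pCore 2 G = ⊥ := by
  have := Fact.mk Nat.prime_two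
  have hn : Group.IsNilpotent (Cfsg.pCore 2 G) :=
    (Cfsg.Agent.Grp.pCore_isPGroup (G := G)).isNilpotent
  exact hsol _ Cfsg.Agent.Grp.pCore_isNormal inferInstance

theorem oddCore_bot (hsol : ∀ N : Subgroup G, N.Normal → Group.IsSolvable ↥N → N = ⊥) :
    Cfsg.pPrimeCore 2 G = ⊥ :=
  hsol _ Cfsg.Agent.Grp.pPrimeCore_isNormal
    (Cfsg.Agent.S0205.result (Nat.coprime_two_right.mp Cfsg.Agent.Grp.pPrimeCore_coprime))

/-- An involution of a normal subgroup is never isolated in it, when the radical is trivial. -/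
theorem not_isolated (hsol : ∀ N : Subgroup G, N.Normal → Group.IsSolvable ↥N → N = ⊥)
    (K : Subgroup G) [K.Normal] {x : G} (hxK : x ∈ K) (hx : orderOf x = 2)
    (hiso : ∀ g ∈ K, ∀ Q : Subgroup G, IsPGroup 2 Q → x ∈ Q → g * x * g⁻¹ ∈ Q →
      g * x * g⁻¹ = x) : False := by
  have := Fact.mk Nat.prime_two
  have hu : orderOf (⟨x, hxK⟩ : K) = 2 := by rw [← Subgroup.orderOf_coe]; exact hx
  have h2g : IsPGroup 2 (Subgroup.zpowers (⟨x, hxK⟩ : K)) :=
    IsPGroup.of_card (n := 1) (by rw [Nat.card_zpowers, hu, pow_one])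
  obtain ⟨P, hP⟩ := h2g.exists_le_sylow
  have hxP : (⟨x, hxK⟩ : K) ∈ P := hP (Subgroup.mem_zpowers _)
  obtain ⟨N, hNn, hNodd, hN⟩ := Cfsg.Agent.S0215.result P _ hu hxP (fun g hg => Subtype.ext
    (hiso g g.2 ((P : Subgroup K).map K.subtype) (P.isPGroup'.map _) ⟨_, hxP, rfl⟩ ⟨_, hg, rfl⟩))
  have hNle : N.map K.subtype ≤ Cfsg.pPrimeCore 2 G :=
    (Subgroup.map_mono (Cfsg.Agent.Grp.le_pPrimeCore hNn (Nat.coprime_two_right.mpr hNodd))).trans
      (by rw [Cfsg.Agent.Grp.pPrimeCore_map_eq K]; exact inf_le_left)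
  rw [oddCore_bot hsol] at hNle
  have hc : (⟨x, hxK⟩ : K) ∈ Subgroup.center K := by
    rw [Subgroup.mem_center_iff]
    intro g
    have h1 := hN g
    have h2 : K.subtype (⟨x, hxK⟩ * g * (⟨x, hxK⟩ : K)⁻¹ * g⁻¹) = 1 :=
      Subgroup.mem_bot.mp (hNle ⟨_, h1, rfl⟩)
    have h3 : (⟨x, hxK⟩ : K) * g * (⟨x, hxK⟩ : K)⁻¹ * g⁻¹ = 1 := Subtype.ext h2
    exact (mul_inv_eq_iff_eq_mul.mp (mul_inv_eq_one.mp h3)).symm
  have hsolv : Group.IsSolvable (Subgroup.center K) := Group.isSolvable_of_comm fun a b =>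
    Subtype.ext (Subgroup.mem_center_iff.mp b.2 a)
  have h4 : (Subgroup.center K).map K.subtype = ⊥ := hsol _ inferInstance
    (Group.isSolvable_of_surjective (f := K.subtype.subgroupMap (Subgroup.center K))
      (MonoidHom.subgroupMap_surjective _ _))
  have h5 : x ∈ (⊥ : Subgroup G) := h4 ▸ Subgroup.mem_map_of_mem K.subtype hc
  rw [Subgroup.mem_bot.mp h5, orderOf_one] at hx
  omega

/-- The case of one odd product order at least five does not occur. -/
theorem no_hyp (hsol : ∀ N : Subgroup G, N.Normal → Group.IsSolvable ↥N → N = ⊥) {p : ℕ}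
    (h : Hyp D p) (hgen : Subgroup.closure D = ⊤) {x : G} (hx : x ∈ D) : False := by
  have hf := no_fork h hgen (core_bot hsol)
  set S : Set G := {d ∈ D | d = x ∨ ¬ Commute d x} with hS
  have hsep : ∀ e ∈ D, e ∉ S → ∀ d ∈ S, Commute e d := by
    intro e he heS d hd
    have h1 : e ≠ x ∧ Commute e x := by
      by_contra hh
      exact heS ⟨he, or_iff_not_imp_left.mpr fun h2 h3 => hh ⟨h2, h3⟩⟩
    rcases hd.2 with rfl | hdx
    · exact h1.2
    · by_contra hn
      exact hf x e d ⟨hx, he, hd.1, h1.1.symm, h1.2.symm, fun h2 => hdx h2.symm, hn⟩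
  set K := Subgroup.closure S with hK
  have hcl : ∀ e ∈ D, e ∉ S → ∀ a ∈ K, Commute e a := by
    intro e he heS a ha
    have hle : K ≤ Subgroup.centralizer {e} := by
      rw [hK, Subgroup.closure_le]
      exact fun d hd => Subgroup.mem_centralizer_singleton_iff.mpr (hsep e he heS d hd).symm.eq
    exact (Subgroup.mem_centralizer_singleton_iff.mp (hle ha)).symm
  have hmap : ∀ e ∈ D, ∀ a ∈ K, e * a * e⁻¹ ∈ K := by
    intro e he a ha
    by_cases heS : e ∈ S
    · have h1 : e ∈ K := Subgroup.subset_closure heS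
      exact mul_mem (mul_mem h1 ha) (Subgroup.inv_mem _ h1)
    · rw [(hcl e he heS a ha).eq, mul_inv_cancel_right]; exact ha
  have hKn : K.Normal := by
    rw [← Subgroup.normalizer_eq_top_iff, eq_top_iff, ← hgen, Subgroup.closure_le]
    intro e he
    rw [SetLike.mem_coe, Subgroup.mem_normalizer_iff]
    refine fun a => ⟨hmap e he a, fun ha => ?_⟩
    have h1 := hmap e he _ ha
    rwa [h.inv' he, show e * (e * a * e) * e = (e * e) * a * (e * e) by group, h.sq he, one_mul,
      mul_one] at h1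
  have hxS : x ∈ S := ⟨hx, Or.inl rfl⟩
  refine not_isolated hsol K (Subgroup.subset_closure hxS)
    (orderOf_eq_prime (pow_two_sq (h.sq hx)) (h.ne_one hx)) fun g hg Q hQ hxQ hgQ => ?_
  have hD := h.conj g x hx
  by_contra hne
  have hcom : Commute (g * x * g⁻¹) x := by
    by_contra hn
    exact h.prod_ne_one hD hne
      (eq_one_of_two_group hQ (mul_mem hgQ hxQ) h.odd (h.pow_p hD hx hn))
  have hnS : g * x * g⁻¹ ∉ S := fun hs => hs.2.elim hne fun h1 => h1 hcom
  have h1 := hcl _ hD hnS g hg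
  refine hne ?_
  calc g * x * g⁻¹ = g⁻¹ * (g * (g * x * g⁻¹)) := by group
    _ = g⁻¹ * ((g * x * g⁻¹) * g) := by rw [h1.eq]
    _ = x := by group

theorem semiconj_pow {a b : G} (ha : a * a = 1) (hb : b * b = 1) (m : ℕ) :
    (a * b) ^ m * a * ((a * b) ^ m)⁻¹ = (a * b) ^ (2 * m) * a := by
  have hs : SemiconjBy a (a * b) (a * b)⁻¹ := by
    show a * (a * b) = (a * b)⁻¹ * a
    rw [mul_inv_rev, inv_eq_self ha, inv_eq_self hb, ← mul_assoc, ha, one_mul, mul_assoc, ha, mul_one]
  have h4 := (hs.pow_right m).inv_right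
  rw [inv_pow, inv_inv] at h4
  rw [mul_assoc, show a * ((a * b) ^ m)⁻¹ = (a * b) ^ m * a from h4, ← mul_assoc, ← pow_add,
    two_mul]

/-- A class with at most two product orders consists of 3-transpositions. -/
theorem three_transpositions (hsol : ∀ N : Subgroup G, N.Normal → Group.IsSolvable ↥N → N = ⊥)
    (hinv : ∀ d ∈ D, orderOf d = 2) (hcl : ∃ d ∈ D, D = conjugatesOf d)
    (hgen : Subgroup.closure D = ⊤) (n₁ n₂ : ℕ)
    (hord : ∀ d ∈ D, ∀ e ∈ D, d ≠ e → orderOf (d * e) = n₁ ∨ orderOf (d * e) = n₂) :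
    Cfsg.IsThreeTranspositionClass D := by
  obtain ⟨x, hxD, hD⟩ := hcl
  have hsq : ∀ d ∈ D, d * d = 1 := fun d hd => by
    rw [← sq, ← hinv d hd, pow_orderOf_eq_one]
  have hne1 : ∀ d ∈ D, d ≠ 1 := fun d hd he => by
    have := hinv d hd; rw [he, orderOf_one] at this; omega
  have hconj : ∀ g : G, ∀ d ∈ D, g * d * g⁻¹ ∈ D := by
    intro g d hd
    rw [hD] at hd ⊢
    exact _root_.IsConj.trans hd (_root_.isConj_iff.mpr ⟨g, rfl⟩)
  set InS : ℕ → Prop := fun n => n = n₁ ∨ n = n₂ with hInS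
  have hpow : ∀ d ∈ D, ∀ e ∈ D, ∀ m : ℕ, (d * e) ^ (2 * m) ≠ 1 →
      InS (orderOf ((d * e) ^ (2 * m))) := by
    intro d hd e he m hm
    have h1 := hconj ((d * e) ^ m) d hd
    rw [semiconj_pow (hsq d hd) (hsq e he) m] at h1
    have h2 : (d * e) ^ (2 * m) * d * d = (d * e) ^ (2 * m) := by
      rw [mul_assoc, hsq d hd, mul_one]
    have h3 := hord _ h1 d hd (fun h4 => hm (mul_eq_right.mp h4))
    rwa [h2] at h3
  have := Fact.mk Nat.prime_two
  by_cases hA : ∀ d ∈ D, ∀ e ∈ D, ∃ k, orderOf (d * e) = 2 ^ k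
  · -- all products are 2-elements
    exfalso
    have hx2 : x ∈ Cfsg.pCore 2 G := by
      refine Cfsg.Agent.Grp.baer_suzuki x fun g => ?_
      set e := g * x * g⁻¹ with he
      have heD : e ∈ D := hconj g x hxD
      obtain ⟨k, hk⟩ := hA x hxD e heD
      have hw : IsPGroup 2 (Subgroup.zpowers (x * e)) :=
        IsPGroup.of_card (n := k) (by rw [Nat.card_zpowers, hk])
      have hxp : IsPGroup 2 (Subgroup.zpowers x) :=
        IsPGroup.of_card (n := 1) (by rw [Nat.card_zpowers, hinv x hxD, pow_one])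
      have hnorm : Subgroup.zpowers x ≤ Subgroup.normalizer (Subgroup.zpowers (x * e) : Set G) := by
        rw [Subgroup.zpowers_le, Subgroup.mem_normalizer_iff]
        have h1 : x * (x * e) * x⁻¹ = (x * e)⁻¹ := by
          rw [mul_inv_rev, inv_eq_self (hsq x hxD), inv_eq_self (hsq e heD), ← mul_assoc, hsq x hxD,
            one_mul]
        have key : ∀ a ∈ Subgroup.zpowers (x * e), x * a * x⁻¹ ∈ Subgroup.zpowers (x * e) := by
          rintro _ ⟨i, rfl⟩
          rw [← MulAut.conj_apply, map_zpow, MulAut.conj_apply, h1]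
          exact Subgroup.zpow_mem _ (Subgroup.inv_mem _ (Subgroup.mem_zpowers _)) i
        refine fun a => ⟨key a, fun ha => ?_⟩
        have h2 := key _ ha
        rw [inv_eq_self (hsq x hxD)] at h2
        rwa [show x * (x * a * x) * x = (x * x) * a * (x * x) by group, hsq x hxD, one_mul,
          mul_one] at h2
      refine (hxp.to_sup_of_normal_right' hw hnorm).to_le ?_
      rw [Subgroup.closure_le]
      rintro a (rfl | rfl)
      · exact Subgroup.mem_sup_left (Subgroup.mem_zpowers _)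
      · show e ∈ _
        have h4 : x * (x * e) ∈ Subgroup.zpowers x ⊔ Subgroup.zpowers (x * e) :=
          mul_mem (Subgroup.mem_sup_left (Subgroup.mem_zpowers _))
            (Subgroup.mem_sup_right (Subgroup.mem_zpowers _))
        rwa [← mul_assoc x x e, hsq x hxD, one_mul] at h4
    rw [core_bot hsol, Subgroup.mem_bot] at hx2
    exact hne1 x hxD hx2
  push_neg at hA
  obtain ⟨d₀, hd₀, e₀, he₀, hn₀⟩ := hA
  set n := orderOf (d₀ * e₀) with hn
  have hnpos : 0 < n := orderOf_pos _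
  obtain ⟨q, hq, hqn, hq2⟩ : ∃ q, Nat.Prime q ∧ q ∣ n ∧ q ≠ 2 := by
    by_contra hh
    push_neg at hh
    exact hn₀ _ (Nat.eq_prime_pow_of_unique_prime_dvd hnpos.ne' fun {d} hd hdn => hh d hd hdn)
  have := Fact.mk hq
  have hq3 : 3 ≤ q := by have := hq.two_le; omega
  have hqS : InS q := by
    have hne : (d₀ * e₀) ^ (2 * (n / q)) ≠ 1 := by
      intro h1
      have h2 : n ∣ 2 * (n / q) := orderOf_dvd_of_pow_eq_one h1
      have h3 : 0 < n / q := Nat.div_pos (Nat.le_of_dvd hnpos hqn) hq.pos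
      have h4 := Nat.le_of_dvd (by omega) h2
      have h5 := Nat.div_mul_cancel hqn
      have : 3 * (n / q) ≤ (n / q) * q := by rw [mul_comm 3]; exact Nat.mul_le_mul_left _ hq3
      omega
    have h6 := hpow d₀ hd₀ e₀ he₀ (n / q) hne
    rwa [orderOf_eq_prime (p := q) ?_ hne] at h6
    rw [← pow_mul, mul_assoc, Nat.div_mul_cancel hqn, mul_comm, pow_mul, hn, pow_orderOf_eq_one,
      one_pow]
  have h2S : InS 2 := by
    by_contra h2
    refine not_isolated hsol ⊤ (Subgroup.mem_top x) (hinv x hxD) fun g _ Q hQ hxQ hgQ => ?_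
    by_contra hne
    obtain ⟨k, hk⟩ := hQ ⟨_, mul_mem hgQ hxQ⟩
    set e := g * x * g⁻¹ with he
    have heD : e ∈ D := hconj g x hxD
    have hk' : orderOf (e * x) ∣ 2 ^ k :=
      orderOf_dvd_of_pow_eq_one (by simpa using congrArg Subtype.val hk)
    obtain ⟨j, -, hj⟩ := (Nat.dvd_prime_pow Nat.prime_two).mp hk'
    rcases hord e heD x hxD hne with ho | ho <;> rcases j with _ | _ | j
    all_goals first
      | (have h1 : e * x = 1 := by rwa [pow_zero, orderOf_eq_one_iff] at hj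
         exact hne (by rw [eq_inv_of_mul_eq_one_left h1, inv_eq_self (hsq x hxD)]))
      | (apply h2; first | (left; rw [← ho, hj]; rfl) | (right; rw [← ho, hj]; rfl))
      | (have h3 : (e * x) ^ (2 * 2 ^ j) ≠ 1 := by
           intro h4
           have h5 := Nat.le_of_dvd (by positivity) (orderOf_dvd_of_pow_eq_one h4)
           rw [hj, pow_succ, pow_succ] at h5
           have : 0 < 2 ^ j := by positivity
           omega
         have h6 := hpow e heD x hxD (2 ^ j) h3
         rw [orderOf_eq_prime (p := 2) ?_ h3] at h6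
         · exact h2 h6
         · rw [← pow_mul, show 2 * 2 ^ j * 2 = 2 ^ (j + 1 + 1) by ring, ← hj, pow_orderOf_eq_one])
  have hall : ∀ d ∈ D, ∀ e ∈ D, d ≠ e → orderOf (d * e) = 2 ∨ orderOf (d * e) = q := by
    intro d hd e he hne
    have h1 := hord d hd e he hne
    simp only [hInS] at hqS h2S
    omega
  rcases (show q = 3 ∨ 5 ≤ q by
      rcases Nat.lt_or_ge q 5 with h5 | h5
      · left; interval_cases q
        · rfl
        · exact absurd hq (by norm_num)
      · exact Or.inr h5) with rfl | hq5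
  · refine ⟨⟨hinv, fun d hd e he => ?_⟩, ⟨x, hxD, hD⟩, hgen⟩
    rcases eq_or_ne d e with rfl | hne
    · left; rw [hsq d hd, one_pow]
    · rcases hall d hd e he hne with h1 | h1
      · left; rw [← h1]; exact pow_orderOf_eq_one _
      · right; rw [← h1]; exact pow_orderOf_eq_one _
  · exfalso
    refine no_hyp hsol (p := q) ⟨hq, hq5, fun d hd => ⟨hsq d hd, hne1 d hd⟩, hconj,
      fun d hd e he => ?_⟩ hgen hxD
    rcases eq_or_ne d e with rfl | hne
    · exact Or.inl (Commute.refl d)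
    · rcases hall d hd e he hne with h1 | h1
      · left
        exact (commute_iff_sq (hsq d hd) (hsq e he)).mpr (by rw [← sq, ← h1, pow_orderOf_eq_one])
      · exact Or.inr h1

/-- Rank three on a generating class of involutions gives 3-transpositions. -/
theorem rank_three (hsol : ∀ N : Subgroup G, N.Normal → Group.IsSolvable ↥N → N = ⊥)
    (hinv : ∀ d ∈ D, orderOf d = 2) (hcl : ∃ d ∈ D, D = conjugatesOf d)
    (hgen : Subgroup.closure D = ⊤)
    (hrank : ∀ x ∈ D, ∃ y ∈ D, ∃ z ∈ D,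
      {w : G | ∃ g : G, Commute g x ∧ g * y * g⁻¹ = w} ≠ {w : G | ∃ g : G, Commute g x ∧ g * x * g⁻¹ = w} ∧
      {w : G | ∃ g : G, Commute g x ∧ g * z * g⁻¹ = w} ≠ {w : G | ∃ g : G, Commute g x ∧ g * x * g⁻¹ = w} ∧
      {w : G | ∃ g : G, Commute g x ∧ g * y * g⁻¹ = w} ≠ {w : G | ∃ g : G, Commute g x ∧ g * z * g⁻¹ = w} ∧
      D = {w : G | ∃ g : G, Commute g x ∧ g * x * g⁻¹ = w} ∪ {w : G | ∃ g : G, Commute g x ∧ g * y * g⁻¹ = w}
        ∪ {w : G | ∃ g : G, Commute g x ∧ g * z * g⁻¹ = w}) :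
    Cfsg.IsThreeTranspositionClass D := by
  obtain ⟨x, hxD, hD⟩ := hcl
  obtain ⟨y, -, z, -, -, -, -, hU⟩ := hrank x hxD
  refine three_transpositions hsol hinv ⟨x, hxD, hD⟩ hgen (orderOf (x * y)) (orderOf (x * z))
    fun d hd e he hne => ?_
  have hd' : d ∈ conjugatesOf x := hD ▸ hd
  obtain ⟨g, hg⟩ := _root_.isConj_iff.mp (show _root_.IsConj x d from hd')
  have he' : g⁻¹ * e * g ∈ D := by
    rw [hD] at he ⊢
    exact _root_.IsConj.trans he (_root_.isConj_iff.mpr ⟨g⁻¹, by rw [inv_inv]⟩)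
  have hord : orderOf (d * e) = orderOf (x * (g⁻¹ * e * g)) := by
    rw [show d * e = MulAut.conj g (x * (g⁻¹ * e * g)) by
      rw [MulAut.conj_apply, ← hg]; group, MulEquiv.orderOf_eq]
  have hstab : ∀ t w : G, Commute t x → orderOf (x * (t * w * t⁻¹)) = orderOf (x * w) := by
    intro t w ht
    have h1 : MulAut.conj t (x * w) = x * (t * w * t⁻¹) := by
      rw [MulAut.conj_apply, ← mul_assoc, ht.eq]; group
    rw [← h1, MulEquiv.orderOf_eq]
  rw [hord]
  generalize hwdef : g⁻¹ * e * g = w at he' ⊢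
  have hcase : x ≠ w → orderOf (x * w) = orderOf (x * y) ∨ orderOf (x * w) = orderOf (x * z) := by
    intro hw
    rw [hU] at he'
    rcases he' with (⟨t, ht, hw'⟩ | ⟨t, ht, hw'⟩) | ⟨t, ht, hw'⟩
    · exact absurd (by rw [← hw', ht.eq, mul_inv_cancel_right]) hw
    · exact Or.inl (by rw [← hw', hstab t y ht])
    · exact Or.inr (by rw [← hw', hstab t z ht])
  by_cases hw : x = w
  · exfalso
    have h1 : orderOf (d * e) = orderOf (x * x) := by rw [hord, hwdef, ← hw]
    rw [← sq, ← hinv x hxD, pow_orderOf_eq_one, orderOf_one, orderOf_eq_one_iff] at h1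
    apply hne
    rw [eq_inv_of_mul_eq_one_left h1]
    exact inv_eq_self (by rw [← sq, ← hinv e he, pow_orderOf_eq_one])
  · exact hcase hw

end Cfsg.Agent.Fus.OneOddOrder
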