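import Cfsg.Agent.Lib.Fus.OneOddOrder.Cliques
import Cfsg.Agent.Lib.Grp.Signalizer
import Cfsg.Agent.S0215

/-!
# There is no fork when all non-commuting products have one prime order at least five
-/

namespace Cfsg.Agent.Fus.OneOddOrder

universe u

theorem conj_involution {G : Type*} [Group G] {a b : G} (ha : a * a = 1) (hb : b * b = 1) {n : ℕ}
    (hn : Odd n) (hab : (b * a) ^ n = 1) : ∃ k : ℕ, (b * a) ^ k * a * ((b * a) ^ k)⁻¹ = b := by
  obtain ⟨j, rfl⟩ := hn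
  refine ⟨j + 1, ?_⟩
  have hs : SemiconjBy a (b * a) (b * a)⁻¹ := by
    show a * (b * a) = (b * a)⁻¹ * a
    rw [mul_inv_rev, inv_eq_self hb, inv_eq_self ha, mul_assoc]
  have h4 := (hs.pow_right (j + 1)).inv_right
  rw [inv_pow, inv_inv] at h4
  rw [mul_assoc, show a * ((b * a) ^ (j + 1))⁻¹ = (b * a) ^ (j + 1) * a from h4, ← mul_assoc,
    ← pow_add, show j + 1 + (j + 1) = 2 * j + 1 + 1 by omega, pow_succ, hab, one_mul, mul_assoc, ha,
    mul_one]

variable {G : Type u} [Group G] [Finite G] {D : Set G} {p : ℕ}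

namespace Cliqued

variable (C : Cliqued D p)
include C

/-- The stabiliser of the clique of `a`. -/
def stab {a : G} (ha : a ∈ D) : Subgroup G where
  carrier := {g | Commute (g * a * g⁻¹) a}
  one_mem' := by simp
  mul_mem' {g g'} hg hg' := by
    have h1 := (Commute.conj_iff g).mpr hg'
    rw [show g * (g' * a * g'⁻¹) * g⁻¹ = g * g' * a * (g * g')⁻¹ by group] at h1
    exact C.trans _ (C.hyp.conj _ a ha) _ (C.hyp.conj g a ha) a ha h1 hg
  inv_mem' {g} hg := by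
    have h1 := ((Commute.conj_iff g⁻¹).mpr hg).symm
    rwa [show g⁻¹ * (g * a * g⁻¹) * g⁻¹⁻¹ = a by group] at h1

theorem mem_cl_conj {g a d : G} (ha : a ∈ D) (hg : g ∈ C.stab ha) (hd : d ∈ cl D a) :
    g * d * g⁻¹ ∈ cl D a :=
  ⟨C.hyp.conj g d hd.1,
    C.trans _ (C.hyp.conj g d hd.1) _ (C.hyp.conj g a ha) a ha ((Commute.conj_iff g).mpr hd.2) hg⟩

theorem J_conj {g a c m : G} (ha : a ∈ D) (hc : c ∈ D) (hga : g ∈ C.stab ha) (hgc : g ∈ C.stab hc)
    (hm : m ∈ J D a c) : g * m * g⁻¹ ∈ J D a c := by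
  have h1 : g * m * g⁻¹ ∈ J D (g * a * g⁻¹) (g * c * g⁻¹) := by
    refine ⟨C.hyp.conj g m hm.1, ?_⟩
    have h2 := (Commute.conj_iff g).mpr hm.2
    rwa [show g * (m * a * m) * g⁻¹ = g * m * g⁻¹ * (g * a * g⁻¹) * (g * m * g⁻¹) by group] at h2
  exact C.J_congr (C.hyp.conj g a ha) ha (C.hyp.conj g c hc) hc hga hgc h1

/-- Commuting elements of order `p` fixing two cliques generate a cyclic group. -/
theorem no_rank_two {a c g k : G} (ha : a ∈ D) (hc : c ∈ D) (hac : ¬ Commute a c)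
    (hg : g ∈ C.stab ha ⊓ C.stab hc) (hk : k ∈ C.stab ha ⊓ C.stab hc) (hgk : Commute g k)
    (hgp : g ^ p = 1) (hg1 : g ≠ 1) (hkp : k ^ p = 1) : k ∈ Subgroup.zpowers g := by
  by_contra hkn
  have h := C.hyp
  have := Fact.mk h.prime
  set A := Subgroup.closure ({g, k} : Set G) with hA
  have hgA : g ∈ A := Subgroup.subset_closure (by simp)
  have hkA : k ∈ A := Subgroup.subset_closure (by simp)
  have hAT : A ≤ C.stab ha ⊓ C.stab hc := by
    rw [hA, Subgroup.closure_le]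
    rintro t (rfl | rfl)
    exacts [hg, hk]
  have hAc : IsMulCommutative A := Subgroup.isMulCommutative_closure (by
    rintro s (rfl | rfl) t (rfl | rfl)
    exacts [rfl, hgk.eq, hgk.symm.eq, rfl])
  have hAp : ∀ t ∈ A, t ^ p = 1 := by
    intro t ht
    induction ht using Subgroup.closure_induction with
    | mem d hd => rcases hd with rfl | rfl; exacts [hgp, hkp]
    | one => exact one_pow p
    | mul s t hs ht ihs iht =>
      have hst : Commute s t := congrArg Subtype.val (hAc.is_comm.comm ⟨s, hs⟩ ⟨t, ht⟩)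
      rw [hst.mul_pow, ihs, iht, one_mul]
    | inv s _ ihs => rw [inv_pow, ihs, inv_one]
  have hA1 : A ≠ ⊥ := fun he => hg1 (by rwa [he, Subgroup.mem_bot] at hgA)
  set X := C.elem ha with hX
  have hX2 : IsPGroup 2 X := by
    rintro ⟨d, rfl | hd⟩
    · exact ⟨1, Subtype.ext (one_pow _)⟩
    · exact ⟨1, Subtype.ext (by show d ^ (2 ^ 1) = 1; rw [pow_one]; exact pow_two_sq (h.sq hd.1))⟩
  have hXp : ¬ p ∣ Nat.card X := by
    obtain ⟨n, hn⟩ := IsPGroup.iff_card.mp hX2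
    rw [hn]
    intro hd
    have := Nat.le_of_dvd (by norm_num) (h.prime.dvd_of_dvd_pow hd)
    have := h.five
    omega
  have hAX : A ≤ Subgroup.normalizer (X : Set G) := by
    intro t ht
    rw [Subgroup.mem_normalizer_iff]
    have key : ∀ s ∈ C.stab ha, ∀ d ∈ X, s * d * s⁻¹ ∈ X := by
      rintro s hs d (rfl | hd)
      · rw [mul_one, mul_inv_cancel]; exact one_mem _
      · exact Or.inr (C.mem_cl_conj ha hs hd)
    refine fun d => ⟨key t (hAT ht).1 d, fun hd => ?_⟩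
    have h1 := key t⁻¹ (Subgroup.inv_mem _ (hAT ht).1) _ hd
    rwa [show t⁻¹ * (t * d * t⁻¹) * t⁻¹⁻¹ = d by group] at h1
  have hle : X ≤ ⊥ := Cfsg.Agent.Grp.le_of_hyperplanes (p := p) ⟨hAc, hAp⟩ hA1 X hXp hAX
    (fun E hEA hE => by
      have hE1 : E ≠ ⊥ := by
        rintro rfl
        rw [Subgroup.relIndex_bot_left] at hE
        have h1 : Subgroup.zpowers g = A := Subgroup.eq_of_le_of_card_ge (Subgroup.zpowers_le.mpr hgA)
          (by rw [hE, Nat.card_zpowers, orderOf_eq_prime hgp hg1])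
        exact hkn (by rw [h1]; exact hkA)
      obtain ⟨e, he, he1⟩ := (Subgroup.ne_bot_iff_exists_ne_one.mp hE1).elim fun s hs =>
        (⟨s.1, s.2, fun h1 => hs (Subtype.ext h1)⟩ : ∃ e, e ∈ E ∧ e ≠ 1)
      intro d hd
      rw [Subgroup.mem_bot]
      by_contra hd1
      have hd' : d ∈ cl D a := hd.1.resolve_left hd1
      exact he1 (C.fix_trivial hd'.1 hc (fun h1 => hac (C.trans a ha d hd'.1 c hc hd'.2.symm h1))
        (hAp e (hEA he)) (Subgroup.mem_centralizer_iff.mp hd.2 e he) (hAT (hEA he)).2))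
  have : a ∈ (⊥ : Subgroup G) := hle (Or.inr ⟨ha, Commute.refl a⟩)
  exact h.ne_one ha (Subgroup.mem_bot.mp this)

/-- Two subgroups of order `p` fixing two cliques are conjugate fixing those cliques. -/
theorem conj_of_two {a c g k : G} (ha : a ∈ D) (hc : c ∈ D) (hac : ¬ Commute a c)
    (hg : g ∈ C.stab ha ⊓ C.stab hc) (hk : k ∈ C.stab ha ⊓ C.stab hc)
    (hgp : g ^ p = 1) (hg1 : g ≠ 1) (hkp : k ^ p = 1) (hk1 : k ≠ 1) :
    ∃ t ∈ C.stab ha ⊓ C.stab hc, g ∈ Subgroup.zpowers (t * k * t⁻¹) := by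
  have := Fact.mk C.hyp.prime
  set T := C.stab ha ⊓ C.stab hc with hT
  have hpg : ∀ {s : T}, (s : G) ^ p = 1 → IsPGroup p (Subgroup.zpowers s) := by
    rintro s hs ⟨_, ⟨i, rfl⟩⟩
    refine ⟨1, Subtype.ext (Subtype.ext ?_)⟩
    show (((s ^ i : T)) : G) ^ (p ^ 1) = 1
    rw [pow_one, Subgroup.coe_zpow, ← zpow_natCast, ← zpow_mul, mul_comm, zpow_mul, zpow_natCast,
      hs, one_zpow]
  obtain ⟨P, hP⟩ := (hpg (s := ⟨g, hg⟩) hgp).exists_le_sylow
  obtain ⟨Q, hQ⟩ := (hpg (s := ⟨k, hk⟩) hkp).exists_le_sylow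
  obtain ⟨t, ht⟩ := MulAction.exists_smul_eq T Q P
  have hkP : t * ⟨k, hk⟩ * t⁻¹ ∈ P := by
    have h1 : (⟨k, hk⟩ : T) ∈ (Q : Subgroup T) := hQ (Subgroup.mem_zpowers _)
    have h2 := Subgroup.smul_mem_pointwise_smul _ (MulAut.conj t) (Q : Subgroup T) h1
    rw [← Sylow.pointwise_smul_def] at h2
    rw [← ht]
    exact h2
  have hgP : (⟨g, hg⟩ : T) ∈ P := hP (Subgroup.mem_zpowers _)
  have hnt : Nontrivial P := by
    refine ⟨⟨⟨⟨g, hg⟩, hgP⟩, 1, fun he => hg1 ?_⟩⟩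
    exact congrArg (fun s : P => ((s : T) : G)) he
  have hcn := P.isPGroup'.center_nontrivial
  have hdvd : p ∣ Nat.card (Subgroup.center P) := by
    obtain ⟨n, hn⟩ := IsPGroup.iff_card.mp (P.isPGroup'.to_subgroup (Subgroup.center P))
    rw [hn]
    refine dvd_pow_self p fun h0 => ?_
    rw [h0, pow_zero] at hn
    exact absurd hn (Finite.one_lt_card (α := Subgroup.center P)).ne'
  obtain ⟨z, hz⟩ := exists_prime_orderOf_dvd_card' p hdvd
  set z' : G := (((z : P) : T) : G) with hz'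
  have hzp : z' ^ p = 1 := by
    have h1 : z ^ p = 1 := by rw [← orderOf_dvd_iff_pow_eq_one, hz]
    simpa [hz'] using congrArg (fun s : Subgroup.center P => (((s : P) : T) : G)) h1
  have hz1 : z' ≠ 1 := by
    intro h1
    have : z = 1 := Subtype.ext (Subtype.ext (Subtype.ext h1))
    rw [this, orderOf_one] at hz
    exact C.hyp.prime.one_lt.ne hz
  have hcom : ∀ s : P, Commute z' (((s : T)) : G) := fun s =>
    (congrArg (fun w : P => ((w : T) : G)) (Subgroup.mem_center_iff.mp z.2 s)).symm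
  have mem : ∀ s : T, s ∈ P → (s : G) ^ p = 1 → (s : G) ∈ Subgroup.zpowers z' := fun s hs hsp =>
    C.no_rank_two ha hc hac ((z : P) : T).2 s.2 (hcom ⟨s, hs⟩) hzp hz1 hsp
  refine ⟨t, t.2, ?_⟩
  set k' := (t : G) * k * (t : G)⁻¹ with hk'
  have hkp' : k' ^ p = 1 := by rw [hk', conj_pow, hkp, mul_one, mul_inv_cancel]
  have hk'1 : k' ≠ 1 := fun h1 => hk1 (conj_eq_one_iff.mp h1)
  have h2 : k' ∈ Subgroup.zpowers z' := mem _ hkP hkp'
  have heq : Subgroup.zpowers k' = Subgroup.zpowers z' :=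
    Subgroup.eq_of_le_of_card_ge (Subgroup.zpowers_le.mpr h2)
      (by rw [Nat.card_zpowers, Nat.card_zpowers, orderOf_eq_prime hkp' hk'1,
        orderOf_eq_prime hzp hz1])
  rw [heq]
  exact mem ⟨g, hg⟩ hgP hgp

/-- A product of two members of `J a b` fixes only the cliques of `a` and `b`. -/
theorem fix_two {a b u v : G} (ha : a ∈ D) (hb : b ∈ D) (hab : ¬ Commute a b) (hu : u ∈ J D a b)
    (hv : v ∈ J D a b) (hne : u ≠ v) {c : G} (hc : c ∈ D) (hca : ¬ Commute c a)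
    (hcb : ¬ Commute c b) : ¬ Commute ((u * v) * c * (u * v)⁻¹) c := by
  intro hrc
  have h := C.hyp
  have := Fact.mk h.prime
  obtain ⟨huv, hra⟩ := C.J_pair ha hb hab hu hv hne
  set r := u * v with hr
  have hrp : r ^ p = 1 := h.pow_p hu.1 hv.1 huv
  have hr1 : r ≠ 1 := h.prod_ne_one hu.1 hne
  have hrord : orderOf r = p := h.order hu.1 hv.1 huv
  have hur : u * r * u⁻¹ = r⁻¹ := by
    rw [hr, mul_inv_rev, h.inv' hu.1, h.inv' hv.1, ← mul_assoc, h.sq hu.1, one_mul]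
  set I : Set G := {e ∈ D | e * r * e⁻¹ = r⁻¹} with hI
  have huI : u ∈ I := ⟨hu.1, hur⟩
  have hIcomm : ∀ e ∈ I, ∀ e' ∈ I, Commute e e' → e = e' := by
    intro e he e' he' hcm
    by_contra hne'
    have hw := C.prod_mem he.1 he'.1 hne' hcm
    have hwr : Commute (e * e') r := by
      show e * e' * r = r * (e * e')
      calc e * e' * r = e * (e' * r * e'⁻¹) * e' := by group
        _ = (e * r * e⁻¹)⁻¹ * (e * e') := by rw [he'.2]; group
        _ = r * (e * e') := by rw [he.2, inv_inv]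
    obtain ⟨h1, h2⟩ := h.line hw hu.1 hv.1 huv hwr
    exact huv (C.trans u hu.1 _ hw v hv.1 h1.symm h2)
  -- a member inverting `r` and mapping the clique of `a` to a given fixed clique
  have step : ∀ d ∈ D, ¬ Commute a d → Commute (r * d * r⁻¹) d → ∃ m ∈ I, m ∈ J D a d := by
    intro d hd had hrd
    obtain ⟨u', v', hu', hv', hne'⟩ :=
      (Set.one_lt_ncard_iff (Set.toFinite _)).mp (C.J_card ha hd had ▸ C.two_le_cl hd)
    obtain ⟨huv', hra'⟩ := C.J_pair ha hd had hu' hv' hne'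
    have hrd' := (C.J_pair hd ha (fun h1 => had h1.symm) (C.J_symm hu') (C.J_symm hv') hne').2
    have hr'1 : u' * v' ≠ 1 := h.prod_ne_one hu'.1 hne'
    obtain ⟨t, ht, htr⟩ := C.conj_of_two ha hd had (g := r) (k := u' * v') ⟨hra, hrd⟩ ⟨hra', hrd'⟩
      hrp hr1 (h.pow_p hu'.1 hv'.1 huv') hr'1
    refine ⟨t * u' * t⁻¹, ⟨h.conj t u' hu'.1, ?_⟩, C.J_conj ha hd ht.1 ht.2 hu'⟩
    obtain ⟨i, hi⟩ := htr
    have hi' : r = (t * (u' * v') * t⁻¹) ^ i := hi.symm
    have h1 : (t * u' * t⁻¹) * (t * (u' * v') * t⁻¹) * (t * u' * t⁻¹)⁻¹ =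
        (t * (u' * v') * t⁻¹)⁻¹ := by
      calc (t * u' * t⁻¹) * (t * (u' * v') * t⁻¹) * (t * u' * t⁻¹)⁻¹
          = t * ((u' * u') * (v' * u'⁻¹)) * t⁻¹ := by group
        _ = t * (v'⁻¹ * u'⁻¹) * t⁻¹ := by rw [h.sq hu'.1, one_mul, h.inv' hv'.1]
        _ = (t * (u' * v') * t⁻¹)⁻¹ := by group
    rw [hi', ← MulAut.conj_apply, map_zpow, MulAut.conj_apply, h1, inv_zpow]
  set H := Subgroup.closure I with hH
  have hIH : ∀ e ∈ I, e ∈ H := fun e he => Subgroup.subset_closure he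
  have hinvr : ∀ g ∈ H, g * r * g⁻¹ = r ∨ g * r * g⁻¹ = r⁻¹ := by
    intro g hg
    induction hg using Subgroup.closure_induction with
    | mem e he => exact Or.inr he.2
    | one => left; group
    | mul s t hs ht ihs iht =>
      have e1 : s * t * r * (s * t)⁻¹ = s * (t * r * t⁻¹) * s⁻¹ := by group
      rcases iht with h1 | h1
      · rw [e1, h1]; exact ihs
      · rw [e1, h1, show s * r⁻¹ * s⁻¹ = (s * r * s⁻¹)⁻¹ by group]
        rcases ihs with h2 | h2
        · exact Or.inr (by rw [h2])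
        · exact Or.inl (by rw [h2, inv_inv])
    | inv s _ ihs =>
      rcases ihs with h1 | h1
      · left; nth_rewrite 1 [← h1]; group
      · right
        calc s⁻¹ * r * s⁻¹⁻¹ = (s⁻¹ * (s * r * s⁻¹) * s⁻¹⁻¹)⁻¹ := by rw [h1]; group
          _ = r⁻¹ := by group
  have hconjI : ∀ g ∈ H, ∀ e ∈ I, g * e * g⁻¹ ∈ I := by
    intro g hg e he
    refine ⟨h.conj g e he.1, ?_⟩
    rcases hinvr g⁻¹ (Subgroup.inv_mem _ hg) with h1 | h1 <;> rw [inv_inv] at h1
    · have h2 : g * r * g⁻¹ = r := by nth_rewrite 1 [← h1]; group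
      calc g * e * g⁻¹ * r * (g * e * g⁻¹)⁻¹ = g * (e * (g⁻¹ * r * g) * e⁻¹) * g⁻¹ := by group
        _ = g * r⁻¹ * g⁻¹ := by rw [h1, he.2]
        _ = r⁻¹ := by rw [show g * r⁻¹ * g⁻¹ = (g * r * g⁻¹)⁻¹ by group, h2]
    · have h2 : g * r * g⁻¹ = r⁻¹ := by
        calc g * r * g⁻¹ = (g * r⁻¹ * g⁻¹)⁻¹ := by group
          _ = (g * (g⁻¹ * r * g) * g⁻¹)⁻¹ := by rw [h1]
          _ = r⁻¹ := by group
      calc g * e * g⁻¹ * r * (g * e * g⁻¹)⁻¹ = g * (e * (g⁻¹ * r * g) * e⁻¹) * g⁻¹ := by group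
        _ = g * r * g⁻¹ := by rw [h1, show e * r⁻¹ * e⁻¹ = (e * r * e⁻¹)⁻¹ by group, he.2, inv_inv]
        _ = r⁻¹ := h2
  have hu2 : orderOf (⟨u, hIH u huI⟩ : H) = 2 := by
    rw [← Subgroup.orderOf_coe]
    exact orderOf_eq_prime (pow_two_sq (h.sq hu.1)) (h.ne_one hu.1)
  have h2g : IsPGroup 2 (Subgroup.zpowers (⟨u, hIH u huI⟩ : H)) :=
    IsPGroup.of_card (n := 1) (by rw [Nat.card_zpowers, hu2, pow_one])
  have := Fact.mk Nat.prime_two
  obtain ⟨P, hP⟩ := h2g.exists_le_sylow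
  have huP : (⟨u, hIH u huI⟩ : H) ∈ P := hP (Subgroup.mem_zpowers _)
  have hiso : ∀ g : H, g * ⟨u, hIH u huI⟩ * g⁻¹ ∈ P →
      g * ⟨u, hIH u huI⟩ * g⁻¹ = ⟨u, hIH u huI⟩ := by
    intro g hgP
    have he := hconjI g g.2 u huI
    apply Subtype.ext
    show (g : G) * u * (g : G)⁻¹ = u
    refine hIcomm _ he u huI ?_
    by_contra hn
    have h1 := mul_mem hgP huP
    have h2 : ((g * ⟨u, hIH u huI⟩ * g⁻¹) * ⟨u, hIH u huI⟩ : H) ^ p = 1 :=
      Subtype.ext (h.pow_p he.1 hu.1 hn)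
    have h3 := congrArg Subtype.val (eq_one_of_two_group P.isPGroup' h1 h.odd h2)
    have h4 : (g : G) * u * (g : G)⁻¹ * u = 1 := h3
    apply hn
    rw [eq_inv_of_mul_eq_one_left h4, h.inv' hu.1]
  obtain ⟨N, hNn, hNodd, hN⟩ := Cfsg.Agent.S0215.result P _ hu2 huP hiso
  -- `u * m` lies in `N` for every `m ∈ I`
  have hIN : ∀ m, ∀ hm : m ∈ I, (⟨u, hIH u huI⟩ * ⟨m, hIH m hm⟩ : H) ∈ N := by
    intro m hm
    by_cases hmu : Commute m u
    · have : (⟨u, hIH u huI⟩ * ⟨m, hIH m hm⟩ : H) = 1 :=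
        Subtype.ext (by show u * m = 1; rw [hIcomm m hm u huI hmu]; exact h.sq hu.1)
      rw [this]; exact one_mem _
    · obtain ⟨i, hi⟩ := h.conj_of_odd hu.1 hm.1 fun h1 => hmu h1.symm
      have h2 := hN ((⟨m, hIH m hm⟩ * ⟨u, hIH u huI⟩) ^ i)
      refine (congrArg (· ∈ N) (Subtype.ext ?_)).mp h2
      show u * (m * u) ^ i * u⁻¹ * ((m * u) ^ i)⁻¹ = u * m
      conv_rhs => rw [← hi]
      rw [h.inv' hu.1]
      group
  have hrb : r ∈ C.stab hb :=
    (C.J_pair hb ha (fun h1 => hab h1.symm) (C.J_symm hu) (C.J_symm hv) hne).2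
  obtain ⟨m, hmI, hmJ⟩ := step c hc (fun h1 => hca h1.symm) hrc
  set c' := u * c * u with hc'
  have hc'D : c' ∈ D := h.conjM (h.sq hu.1) hc
  have hrc' : Commute (r * c' * r⁻¹) c' := by
    have h1 : r⁻¹ ∈ C.stab hc := Subgroup.inv_mem _ hrc
    have h2 : Commute (r⁻¹ * c * r⁻¹⁻¹) c := h1
    have h3 := C.conj_sim hu.1 h2
    have e : r * c' * r⁻¹ = u * (r⁻¹ * c * r⁻¹⁻¹) * u := by
      have h4 : u * r * u = r⁻¹ := by
        have h5 := hur
        rwa [h.inv' hu.1] at h5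
      have h5 : u * r⁻¹ * u = r := by
        have h6 : (u * r * u)⁻¹ = r := by rw [h4, inv_inv]
        rwa [mul_inv_rev, mul_inv_rev, h.inv' hu.1, ← mul_assoc] at h6
      calc r * c' * r⁻¹ = (u * r⁻¹ * u) * (u * c * u) * (u * r * u) := by rw [h4, h5]
        _ = u * r⁻¹ * (u * u) * c * (u * u) * r * u := by group
        _ = u * (r⁻¹ * c * r⁻¹⁻¹) * u := by rw [h.sq hu.1, mul_one, mul_one]; group
    rw [e]; exact h3
  have hac' : ¬ Commute a c' := by
    intro h1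
    have h2 := C.conj_sim hu.1 h1
    rw [show u * c' * u = (u * u) * c * (u * u) by rw [hc']; group, h.sq hu.1, one_mul, mul_one] at h2
    exact hcb (C.trans c hc _ (h.conjM (h.sq hu.1) ha) b hb h2.symm hu.2)
  obtain ⟨m₁, hm₁I, hm₁J⟩ := step c' hc'D hac' hrc'
  set uH : H := ⟨u, hIH u huI⟩ with huH
  set n : H := (uH * ⟨m₁, hIH m₁ hm₁I⟩) * (uH * ⟨m, hIH m hmI⟩) with hn
  have hnN : n ∈ N := mul_mem (hIN m₁ hm₁I) (hIN m hmI)
  set s : H := uH * n with hs
  have hsa : (s : G) ∈ C.stab ha := by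
    show Commute ((u * ((u * m₁) * (u * m))) * a * (u * ((u * m₁) * (u * m)))⁻¹) a
    rw [show u * ((u * m₁) * (u * m)) = m₁ * u * m by
      rw [show u * ((u * m₁) * (u * m)) = (u * u) * (m₁ * u * m) by group, h.sq hu.1, one_mul],
      mul_inv_rev, mul_inv_rev, h.inv' hu.1, h.inv' hmI.1, h.inv' hm₁I.1,
      show m₁ * u * m * a * (m * (u * m₁)) = m₁ * (u * (m * a * m) * u) * m₁ by group]
    have h1 := C.conj_sim hm₁I.1 (C.conj_sim hu.1 hmJ.2)
    refine C.trans _ ?_ _ ?_ a ha h1 (C.J_symm hm₁J).2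
    · exact h.conjM (h.sq hm₁I.1) (h.conjM (h.sq hu.1) (h.conjM (h.sq hmI.1) ha))
    · exact h.conjM (h.sq hm₁I.1) hc'D
  have huu : uH * uH = 1 := Subtype.ext (h.sq hu.1)
  have hs2 : s * s ∈ N := by
    rw [hs, show uH * n * (uH * n) = (uH * n * uH⁻¹) * n by rw [inv_eq_self huu]; group]
    exact mul_mem (hNn.conj_mem n hnN uH) hnN
  set l := orderOf (⟨s * s, hs2⟩ : N) with hl
  have hlodd : Odd l := hNodd.of_dvd_nat (orderOf_dvd_natCard _)
  have hsl : (s * s) ^ l = 1 := congrArg Subtype.val (pow_orderOf_eq_one (⟨s * s, hs2⟩ : N))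
  have hll : (s ^ l) * (s ^ l) = 1 := by rw [← (Commute.refl s).mul_pow]; exact hsl
  obtain ⟨j, hj⟩ := hlodd
  have hslN : uH * s ^ l ∈ N := by
    rw [hj, pow_succ', pow_mul, sq, ← mul_assoc, hs, ← mul_assoc, huu, one_mul]
    exact mul_mem hnN (Subgroup.pow_mem _ hs2 j)
  set o := orderOf (⟨(s ^ l) * uH, by
    have := hNn.conj_mem _ hslN uH
    rwa [inv_eq_self huu, show uH * (uH * s ^ l) * uH = (uH * uH) * (s ^ l * uH) by group, huu,
      one_mul] at this⟩ : N) with ho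
  obtain ⟨i, hi⟩ := conj_involution huu hll (hNodd.of_dvd_nat (orderOf_dvd_natCard _))
    (congrArg Subtype.val (pow_orderOf_eq_one (⟨(s ^ l) * uH, by
      have := hNn.conj_mem _ hslN uH
      rwa [inv_eq_self huu, show uH * (uH * s ^ l) * uH = (uH * uH) * (s ^ l * uH) by group, huu,
        one_mul] at this⟩ : N)))
  set e : G := ((s ^ l : H) : G) with he
  have heI : e ∈ I := by
    rw [he, ← hi]
    exact hconjI _ ((s ^ l * uH) ^ i).2 u huI
  have hea : e ∈ C.stab ha := by rw [he, Subgroup.coe_pow]; exact Subgroup.pow_mem _ hsa l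
  have hea' : Commute e a := by
    have h1 : Commute (e * a * e) a := by
      have h2 : Commute (e * a * e⁻¹) a := hea
      rwa [h.inv' heI.1] at h2
    by_contra hn'
    exact C.move_ne heI.1 ha hn' h1
  have h5 : Commute (r * e * r⁻¹) e :=
    C.trans _ (h.conj r e heI.1) a ha e heI.1 (C.mem_cl_conj ha hra ⟨heI.1, hea'⟩).2 hea'.symm
  have he2 : e * r⁻¹ = r * e := by
    have h1 : e * r * e⁻¹ = r⁻¹ := heI.2
    calc e * r⁻¹ = e * (e * r * e⁻¹) := by rw [h1]
      _ = (e * e) * r * e⁻¹ := by group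
      _ = r * e := by rw [h.sq heI.1, one_mul, h.inv' heI.1]
  have h6 : r * e * r⁻¹ = r * r * e := by rw [mul_assoc r e, he2, ← mul_assoc]
  rw [h6] at h5
  have he3 : (r * r * e) * (r * r * e) = 1 := by
    rw [← h6]; exact h.sq (h.conj r e heI.1)
  have h7 := (commute_iff_sq he3 (h.sq heI.1)).mp h5
  rw [mul_assoc (r * r) e e, h.sq heI.1, mul_one] at h7
  have h8 : orderOf r ∣ 4 := orderOf_dvd_of_pow_eq_one (by
    rw [← h7]; simp only [pow_succ, pow_zero, one_mul, mul_assoc])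
  rw [hrord] at h8
  have := Nat.le_of_dvd (by norm_num) h8
  have := h.five
  omega

/-- The cliques, as a quotient of `D`. -/
def setoid : Setoid D where
  r a b := Commute (a : G) b
  iseqv := ⟨fun _ => Commute.refl _, fun h => h.symm, fun {a b c} => C.trans a a.2 b b.2 c c.2⟩

theorem impossible {x : G} (hx : x ∈ D) : False := by
  have h := C.hyp
  have := Fact.mk h.prime
  let act : G → Quotient C.setoid → Quotient C.setoid := fun g =>
    Quotient.map (fun d : D => (⟨g * d * g⁻¹, h.conj g d d.2⟩ : D))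
      (fun a b hab => (Commute.conj_iff g).mpr hab)
  have hiter : ∀ (g : G) (n : ℕ) (d : D), (act g)^[n] (Quotient.mk C.setoid d) =
      Quotient.mk C.setoid ⟨g ^ n * d * (g ^ n)⁻¹, h.conj _ d d.2⟩ := by
    intro g n d
    induction n with
    | zero => exact congrArg (Quotient.mk C.setoid) (Subtype.ext (by simp))
    | succ n ih =>
      rw [Function.iterate_succ_apply', ih]
      exact congrArg (Quotient.mk C.setoid)
        (Subtype.ext (show g * (g ^ n * d * (g ^ n)⁻¹) * g⁻¹ = _ by rw [pow_succ']; group))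
  have hper : ∀ g : G, g ^ p = 1 → (act g)^[p] = id := fun g hg => funext fun q =>
    Quotient.inductionOn q fun d => (hiter g p d).trans
      (congrArg (Quotient.mk C.setoid) (Subtype.ext (by simp [hg])))
  have hfix : ∀ (g : G) (d : D), act g (Quotient.mk C.setoid d) = Quotient.mk C.setoid d ↔
      Commute (g * d * g⁻¹) d := fun g d => Quotient.eq
  obtain ⟨u₀, hu₀, hxu₀, hnf⟩ := C.exists_no_fixed hx
  have h1 := modEq_fixed (p := p) (act (x * u₀)) (hper _ (h.pow_p hx hu₀ hxu₀))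
  have h2 : IsEmpty {q // act (x * u₀) q = q} := ⟨fun ⟨q, hq⟩ =>
    Quotient.inductionOn q (fun d hq => hnf d d.2 ((hfix _ d).mp hq)) hq⟩
  rw [Nat.card_of_isEmpty (α := {q // act (x * u₀) q = q})] at h1
  obtain ⟨b, hb, hxb⟩ := C.odd_one x hx
  obtain ⟨u, v, hu, hv, hne⟩ :=
    (Set.one_lt_ncard_iff (Set.toFinite _)).mp (C.J_card hx hb hxb ▸ C.two_le_cl hb)
  obtain ⟨huv, hra⟩ := C.J_pair hx hb hxb hu hv hne
  have hrb := (C.J_pair hb hx (fun h3 => hxb h3.symm) (C.J_symm hu) (C.J_symm hv) hne).2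
  have h3 := modEq_fixed (p := p) (act (u * v)) (hper _ (h.pow_p hu.1 hv.1 huv))
  have h4 : Nat.card {q // act (u * v) q = q} = 2 := by
    rw [Nat.card_eq_two_iff]
    refine ⟨⟨Quotient.mk C.setoid ⟨x, hx⟩, (hfix _ ⟨x, hx⟩).mpr hra⟩,
      ⟨Quotient.mk C.setoid ⟨b, hb⟩, (hfix _ ⟨b, hb⟩).mpr hrb⟩,
      fun he => hxb (Quotient.eq.mp (congrArg Subtype.val he)), ?_⟩
    refine Set.eq_univ_of_forall fun ⟨q, hq⟩ => ?_
    induction q using Quotient.inductionOn with
    | _ d =>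
      by_cases hda : Commute (d : G) x
      · exact Or.inl (Subtype.ext (Quotient.sound hda))
      · right
        refine Subtype.ext (Quotient.sound (show Commute (d : G) b from ?_))
        by_contra hdb
        exact C.fix_two hx hb hxb hu hv hne d.2 hda hdb ((hfix _ d).mp hq)
  rw [h4] at h3
  have h5 := Nat.le_of_dvd (by norm_num) (Nat.modEq_zero_iff_dvd.mp (h3.symm.trans h1))
  have := h.five
  omega

end Cliqued

omit [Group G] [Finite G] in
/-- No group with trivial 2-core has a fork. -/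
theorem no_fork {H : Type u} [Group H] [Finite H] {E : Set H} {q : ℕ} (h : Hyp E q)
    (hgen : Subgroup.closure E = ⊤) (hO : Cfsg.pCore 2 H = ⊥) (x c y : H) : ¬ Fork E x c y := by
  suffices ∀ n, NoForkBelow.{u} q n from
    this (Nat.card H + 1) H E (Nat.lt_succ_self _) h hgen hO x c y
  intro n
  induction n with
  | zero => exact fun H _ _ E hlt => absurd hlt (Nat.not_lt_zero _)
  | succ n ih =>
    intro K _ _ F hlt hF hFgen hFO x c y f
    have M : Minimal F q :=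
      ⟨hF, hFgen, hFO, fun L _ _ S hL => ih L S (hL.trans_le (Nat.lt_succ_iff.mp hlt))⟩
    exact (M.cliqued f).impossible f.hx

end Cfsg.Agent.Fus.OneOddOrder
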