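import Mathlib
import Cfsg.Prelude.Def_Solvable
import Cfsg.Agent.Lib.Grp.Cores

/-!
# Classes of involutions with one odd product order

`Hyp D p`: `D` is a normal set of involutions and two members either commute or have product of
order `p`, a prime at least five.  Elementary consequences.
-/

namespace Cfsg.Agent.Fus.OneOddOrder

variable {G : Type*} [Group G] {D : Set G} {p : ℕ}

/-- A normal set of involutions with a single odd product order `p ≥ 5`. -/
structure Hyp (D : Set G) (p : ℕ) : Prop where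
  prime : p.Prime
  five : 5 ≤ p
  inv : ∀ d ∈ D, d * d = 1 ∧ d ≠ 1
  conj : ∀ g : G, ∀ d ∈ D, g * d * g⁻¹ ∈ D
  dich : ∀ x ∈ D, ∀ y ∈ D, Commute x y ∨ orderOf (x * y) = p

/-- Two commuting distinct members, both having product of order `p` with a third one. -/
structure Fork (D : Set G) (x c y : G) : Prop where
  hx : x ∈ D
  hc : c ∈ D
  hy : y ∈ D
  ne : x ≠ c
  com : Commute x c
  ox : ¬ Commute x y
  oc : ¬ Commute c y

theorem Fork.symm {x c y : G} (f : Fork D x c y) : Fork D c x y :=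
  ⟨f.hc, f.hx, f.hy, f.ne.symm, f.com.symm, f.oc, f.ox⟩

theorem inv_eq_self {a : G} (ha : a * a = 1) : a⁻¹ = a := inv_eq_of_mul_eq_one_left ha

theorem pow_two_sq {a : G} (ha : a * a = 1) : a ^ 2 = 1 := by rw [sq]; exact ha

theorem commute_iff_sq {a b : G} (ha : a * a = 1) (hb : b * b = 1) :
    Commute a b ↔ (a * b) * (a * b) = 1 := by
  constructor
  · intro h
    calc (a * b) * (a * b) = (a * a) * (b * b) := h.symm.mul_mul_mul_comm a b
      _ = 1 := by rw [ha, hb, mul_one]
  · intro h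
    have h' : (a * b)⁻¹ = a * b := inv_eq_of_mul_eq_one_left h
    rw [mul_inv_rev, inv_eq_self ha, inv_eq_self hb] at h'
    exact h'.symm

theorem pow_odd_of_sq {w : G} (hw : w * w = 1) {n : ℕ} (hn : Odd n) : w ^ n = w := by
  obtain ⟨m, rfl⟩ := hn
  rw [pow_succ, pow_mul, pow_two_sq hw, one_pow, one_mul]

namespace Hyp

variable (h : Hyp D p)
include h

theorem odd : Odd p := h.prime.odd_of_ne_two (by have := h.five; omega)

theorem sq {d : G} (hd : d ∈ D) : d * d = 1 := (h.inv d hd).1

theorem inv' {d : G} (hd : d ∈ D) : d⁻¹ = d := inv_eq_self (h.sq hd)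

theorem ne_one {d : G} (hd : d ∈ D) : d ≠ 1 := (h.inv d hd).2

theorem conjM {w d : G} (hw : w * w = 1) (hd : d ∈ D) : w * d * w ∈ D := by
  have := h.conj w d hd
  rwa [inv_eq_self hw] at this

theorem order {x y : G} (hx : x ∈ D) (hy : y ∈ D) (hn : ¬ Commute x y) : orderOf (x * y) = p :=
  (h.dich x hx y hy).resolve_left hn

theorem pow_p {x y : G} (hx : x ∈ D) (hy : y ∈ D) (hn : ¬ Commute x y) : (x * y) ^ p = 1 := by
  rw [← h.order hx hy hn]; exact pow_orderOf_eq_one _

theorem sq_ne {r : G} (hr : orderOf r = p) : r * r ≠ 1 := by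
  intro h2
  have h3 : orderOf r ∣ 2 := orderOf_dvd_of_pow_eq_one (by rw [_root_.sq]; exact h2)
  rw [hr] at h3
  have := Nat.le_of_dvd (by norm_num) h3
  have := h.five
  omega

theorem not_commute_of_order {x y : G} (hx : x ∈ D) (hy : y ∈ D) (ho : orderOf (x * y) = p) :
    ¬ Commute x y := fun hc => h.sq_ne ho ((commute_iff_sq (h.sq hx) (h.sq hy)).mp hc)

/-- No product of two members has order `2p`. -/
theorem no_twice {r w a b : G} (hrw : Commute r w) (hw : w * w = 1) (hw1 : w ≠ 1)
    (hr : orderOf r = p) (ha : a ∈ D) (hb : b ∈ D) (hab : a * b = w * r) : False := by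
  rcases h.dich a ha b hb with hc | ho
  · have h2 := (commute_iff_sq (h.sq ha) (h.sq hb)).mp hc
    rw [hab, hrw.mul_mul_mul_comm w r, hw, one_mul] at h2
    exact h.sq_ne hr h2
  · have h2 : (w * r) ^ p = 1 := by rw [← hab, ← ho]; exact pow_orderOf_eq_one _
    rw [hrw.symm.mul_pow, pow_odd_of_sq hw h.odd, ← hr, pow_orderOf_eq_one, mul_one] at h2
    exact hw1 h2

theorem prod_ne_one {x c : G} (hx : x ∈ D) (hne : x ≠ c) : x * c ≠ 1 := fun he =>
  hne (by rw [← h.inv' hx]; exact inv_eq_of_mul_eq_one_right he)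

/-- A member commuting with the product of two commuting distinct members commutes with both. -/
theorem lemmaA {x c e : G} (hx : x ∈ D) (hc : c ∈ D) (he : e ∈ D) (hne : x ≠ c)
    (hxc : Commute x c) (hez : Commute e (x * c)) : Commute e x ∧ Commute e c := by
  have hz : (x * c) * (x * c) = 1 := (commute_iff_sq (h.sq hx) (h.sq hc)).mp hxc
  have key : Commute e x := by
    by_contra hn
    refine h.no_twice (r := e * x) (w := x * c) ?_ hz (h.prod_ne_one hx hne) (h.order he hx hn)
      he hc ?_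
    · exact hez.mul_left ((Commute.refl x).mul_right hxc)
    · rw [← (hez.mul_left ((Commute.refl x).mul_right hxc)).eq, mul_assoc, ← mul_assoc x x c,
        h.sq hx, one_mul]
  refine ⟨key, ?_⟩
  have hcx : c = x * (x * c) := by rw [← mul_assoc, h.sq hx, one_mul]
  rw [hcx]
  exact key.mul_right hez

/-- A member commuting with a product of order `p` commutes with both factors. -/
theorem line {m u v : G} (hm : m ∈ D) (hu : u ∈ D) (hv : v ∈ D) (huv : ¬ Commute u v)
    (hmr : Commute m (u * v)) : Commute m u ∧ Commute m v := by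
  have key : Commute m u := by
    by_contra hn
    have hq := h.pow_p hm hu hn
    have hr := h.order hu hv huv
    have hqr : (m * u) * (u * v) * (m * u)⁻¹ = (u * v)⁻¹ := by
      have h1 : m * (u * v)⁻¹ * m = (u * v)⁻¹ := by
        rw [hmr.inv_right.eq, mul_assoc, h.sq hm, mul_one]
      rw [mul_inv_rev (m : G) u, h.inv' hm, h.inv' hu]
      rw [mul_inv_rev, h.inv' hu, h.inv' hv] at h1
      calc m * u * (u * v) * (u * m) = m * (u * u) * v * u * m := by group
        _ = m * (v * u) * m := by rw [h.sq hu]; group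
        _ = (u * v)⁻¹ := by rw [mul_inv_rev, h.inv' hu, h.inv' hv]; exact h1
    have h2 : Commute ((m * u) * (m * u)) (u * v) := by
      show _ * _ = _ * _
      calc (m * u) * (m * u) * (u * v)
          = (m * u) * ((m * u) * (u * v) * (m * u)⁻¹) * (m * u) := by group
        _ = (m * u) * (u * v)⁻¹ * (m * u) := by rw [hqr]
        _ = ((m * u) * (u * v) * (m * u)⁻¹)⁻¹ * ((m * u) * (m * u)) := by group
        _ = (u * v) * ((m * u) * (m * u)) := by rw [hqr, inv_inv]
    obtain ⟨j, hj⟩ := h.odd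
    have hq2 : m * u = ((m * u) * (m * u)) ^ (j + 1) := by
      rw [← _root_.sq, ← pow_mul, show 2 * (j + 1) = p + 1 by omega, pow_succ, hq, one_mul]
    have h3 : Commute (m * u) (u * v) := by rw [hq2]; exact h2.pow_left _
    rw [h3.eq, mul_inv_cancel_right] at hqr
    exact h.sq_ne hr (eq_inv_iff_mul_eq_one.mp hqr)
  refine ⟨key, ?_⟩
  have hvu : v = u * (u * v) := by rw [← mul_assoc, h.sq hu, one_mul]
  rw [hvu]
  exact key.mul_right hmr

/-- Two members with product of order `p` are conjugate by a power of their product. -/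
theorem conj_of_odd {x y : G} (hx : x ∈ D) (hy : y ∈ D) (hn : ¬ Commute x y) :
    ∃ k : ℕ, (y * x) ^ k * x * ((y * x) ^ k)⁻¹ = y := by
  obtain ⟨j, hj⟩ := h.odd
  refine ⟨j + 1, ?_⟩
  have hp : (y * x) ^ p = 1 := h.pow_p hy hx fun hc => hn hc.symm
  have hs : SemiconjBy x (y * x) (y * x)⁻¹ := by
    show x * (y * x) = (y * x)⁻¹ * x
    rw [mul_inv_rev, h.inv' hy, h.inv' hx, mul_assoc]
  have h1 := hs.pow_right (j + 1)
  have h2 : ((y * x) ^ (j + 1))⁻¹ = ((y * x)⁻¹) ^ (j + 1) := (inv_pow _ _).symm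
  have h3 : x * ((y * x) ^ (j + 1))⁻¹ = (y * x) ^ (j + 1) * x := by
    have h4 := (hs.pow_right (j + 1)).inv_right
    rw [inv_pow, inv_inv] at h4
    exact h4
  rw [mul_assoc, h3, ← mul_assoc, ← pow_add, show j + 1 + (j + 1) = p + 1 by omega, pow_succ, hp,
    one_mul, mul_assoc, h.sq hx, mul_one]

end Hyp

theorem eq_one_of_two_group {Q : Subgroup G} (hQ : IsPGroup 2 Q) {g : G} (hg : g ∈ Q) {n : ℕ}
    (hn : Odd n) (h1 : g ^ n = 1) : g = 1 := by
  obtain ⟨k, hk⟩ := hQ ⟨g, hg⟩
  have hk' : g ^ 2 ^ k = 1 := by simpa using congrArg Subtype.val hk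
  have hco : Nat.Coprime n (2 ^ k) :=
    (Nat.coprime_comm.mp ((Nat.prime_two.coprime_iff_not_dvd).mpr hn.not_two_dvd_nat)).pow_right k
  have := pow_gcd_eq_one.mpr ⟨h1, hk'⟩
  rwa [hco, pow_one] at this

theorem mem_center_of_commute_gens (hgen : Subgroup.closure D = ⊤) {g : G}
    (hg : ∀ d ∈ D, Commute g d) : g ∈ Subgroup.center G := by
  rw [Subgroup.mem_center_iff]
  intro a
  have hle : Subgroup.closure D ≤ Subgroup.centralizer {g} := by
    rw [Subgroup.closure_le]
    intro d hd
    exact Subgroup.mem_centralizer_singleton_iff.mpr (hg d hd).symm.eq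
  have ha : a ∈ Subgroup.centralizer ({g} : Set G) := hle (hgen ▸ Subgroup.mem_top a)
  exact (Subgroup.mem_centralizer_singleton_iff.mp ha)

theorem eq_one_of_central_sq (hO : Cfsg.pCore 2 G = ⊥) {z : G} (hz : z * z = 1)
    (hc : z ∈ Subgroup.center G) : z = 1 := by
  have hle : Subgroup.zpowers z ≤ Subgroup.center G := Subgroup.zpowers_le.mpr hc
  have hn : (Subgroup.zpowers z).Normal :=
    ⟨fun a ha g => by
      have := Subgroup.mem_center_iff.mp (hle ha) g
      rw [this, mul_inv_cancel_right]; exact ha⟩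
  have hP : IsPGroup 2 (Subgroup.zpowers z) := by
    rintro ⟨a, ⟨i, rfl⟩⟩
    refine ⟨1, Subtype.ext ?_⟩
    show (z ^ i) ^ (2 ^ 1) = 1
    rw [pow_one, ← zpow_natCast, ← zpow_mul, mul_comm, zpow_mul, zpow_natCast, pow_two_sq hz,
      one_zpow]
  have := Cfsg.Agent.Grp.le_pCore hn hP (Subgroup.mem_zpowers z)
  rwa [hO, Subgroup.mem_bot] at this

theorem not_central_of_mem (h : Hyp D p) (hgen : Subgroup.closure D = ⊤)
    (hO : Cfsg.pCore 2 G = ⊥) {d : G} (hd : d ∈ D) : ¬ ∀ e ∈ D, Commute d e := fun hc =>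
  h.ne_one hd (eq_one_of_central_sq hO (h.sq hd) (mem_center_of_commute_gens hgen hc))

end Cfsg.Agent.Fus.OneOddOrder
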