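import Cfsg.Agent.Lib.Fus.OneOddOrder.Induct

/-!
# In a minimal configuration commuting members are twins

The dichotomy for a fork, and the equivalence relation given by commutation on `D`.
-/

namespace Cfsg.Agent.Fus.OneOddOrder

universe u

variable {G : Type u} [Group G] [Finite G] {D : Set G} {p : ℕ}

/-- The standing hypotheses of the minimal configuration. -/
structure Minimal (D : Set G) (p : ℕ) : Prop where
  hyp : Hyp D p
  gen : Subgroup.closure D = ⊤
  core : Cfsg.pCore 2 G = ⊥
  ih : NoForkBelow.{u} p (Nat.card G)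

theorem Hyp.prod_sq (h : Hyp D p) {x c y : G} (f : Fork D x c y) : (x * c) * (x * c) = 1 :=
  (commute_iff_sq (h.sq f.hx) (h.sq f.hc)).mp f.com

theorem closure3 {D : Set G} {x c y : G} (f : Fork D x c y) :
    ({x, c, y} : Set G) ⊆ D ∧ x ∈ Subgroup.closure {x, c, y} ∧ c ∈ Subgroup.closure {x, c, y} ∧
      y ∈ Subgroup.closure {x, c, y} := by
  refine ⟨?_, Subgroup.subset_closure (by simp), Subgroup.subset_closure (by simp),
    Subgroup.subset_closure (by simp)⟩
  rintro a (rfl | rfl | rfl)
  exacts [f.hx, f.hc, f.hy]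

namespace Minimal

variable (M : Minimal D p)
include M

theorem not_commute_z {x c y : G} (f : Fork D x c y) : ¬ Commute y (x * c) := fun hc =>
  f.ox (M.hyp.lemmaA f.hx f.hc f.hy f.ne f.com hc).1.symm

theorem fork_sq_not {Q : Subgroup G} (hQ : IsPGroup 2 Q) {a b : G} (ha : a ∈ D) (hb : b ∈ D)
    (hn : ¬ Commute a b) : (a * b) * (a * b) ∉ Q :=
  fork_not_mem M.hyp hQ ha hb hn

/-- If the product of a fork pair is a member then the fork generates the group. -/
theorem gen_of_mem {x c y : G} (f : Fork D x c y) (hzD : x * c ∈ D) :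
    Subgroup.closure {x, c, y} = ⊤ := by
  by_contra hne
  obtain ⟨hS, hx, hc, hy⟩ := closure3 f
  have hz := fork_sub M.ih M.hyp hS hne f hx hc hy
  have hn : ¬ Commute y (x * c) := M.not_commute_z f
  refine M.fork_sq_not (coreOf_pgroup (Subgroup.closure {x, c, y})) f.hy hzD hn ?_
  rw [← mul_assoc]
  exact mul_mem (coreOf_conjD M.hyp f.hy hy hz) hz

/-- The dichotomy: the product of a fork pair is a member, or its conjugate of `y` commutes with `y`. -/
theorem dichotomy {x c y : G} (f : Fork D x c y) :
    x * c ∈ D ∨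
      (Commute ((x * c) * y * (x * c)) y ∧ (x * c) * y * (x * c) ≠ y) := by
  have h := M.hyp
  have hzz := h.prod_sq f
  set z := x * c with hz
  set y' := z * y * z with hy'
  have hy'D : y' ∈ D := h.conjM hzz f.hy
  have hne : y' ≠ y := fun he => M.not_commute_z f (by
    show y * z = z * y
    calc y * z = (z * y * z) * z := by rw [← hy', he]
      _ = z * y * (z * z) := by group
      _ = z * y := by rw [hzz, mul_one])
  by_cases hcm : Commute y' y
  · exact Or.inr ⟨hcm, hne⟩
  left
  set w := y' * y with hw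
  have hwp : w ^ p = 1 := h.pow_p hy'D f.hy hcm
  obtain ⟨m, hm⟩ := h.odd
  set k := m + 1 with hk
  have h2k : w ^ k * w ^ k = w := by
    rw [← pow_add, show k + k = p + 1 by omega, pow_succ, hwp, one_mul]
  have hyw : y * w * y = w⁻¹ := by
    rw [hw, mul_inv_rev, h.inv' f.hy, h.inv' hy'D]
    calc y * (y' * y) * y = y * y' * (y * y) := by group
      _ = y * y' := by rw [h.sq f.hy, mul_one]
  have hyn : ∀ j : ℕ, y * w ^ j * y = (w ^ j)⁻¹ := by
    intro j
    have h1 : MulAut.conj y (w ^ j) = (MulAut.conj y w) ^ j := map_pow _ _ _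
    simp only [MulAut.conj_apply, h.inv' f.hy] at h1
    rw [h1, hyw, inv_pow]
  set δ := w ^ k * y with hδ
  have hδD : δ ∈ D := by
    have h1 := h.conj (w ^ (k * k)) y f.hy
    have h2 : w ^ (k * k) * y * (w ^ (k * k))⁻¹ = δ := by
      rw [← hyn (k * k), hδ]
      calc w ^ (k * k) * y * (y * w ^ (k * k) * y) = w ^ (k * k) * (y * y) * w ^ (k * k) * y := by
            group
        _ = (w ^ k) ^ k * (w ^ k) ^ k * y := by rw [h.sq f.hy, mul_one, ← pow_mul]
        _ = (w ^ k * w ^ k) ^ k * y := by rw [(Commute.refl (w ^ k)).mul_pow]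
        _ = w ^ k * y := by rw [h2k]
    rwa [h2] at h1
  have hwy : w * y = y' := by rw [hw, mul_assoc, h.sq f.hy, mul_one]
  set u := z * δ with hu
  have huy : u * y * u⁻¹ = y := by
    rw [hu, hδ, mul_inv_rev, mul_inv_rev, inv_eq_self hzz, h.inv' f.hy, ← hyn k]
    calc z * (w ^ k * y) * y * (y * (y * w ^ k * y) * z)
        = z * (w ^ k * (y * y) * (y * y) * w ^ k * y) * z := by group
      _ = z * (w ^ k * w ^ k * y) * z := by rw [h.sq f.hy, mul_one, mul_one]
      _ = z * y' * z := by rw [h2k, hwy]
      _ = (z * z) * y * (z * z) := by rw [hy']; group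
      _ = y := by rw [hzz, one_mul, mul_one]
  have hδz : Commute δ z := by
    have hδ2 := h.sq hδD
    have h1 : z * w * z = w⁻¹ := by
      rw [hw, mul_inv_rev, h.inv' f.hy, h.inv' hy'D, hy']
      calc z * ((z * y * z) * y) * z = (z * z) * y * (z * y * z) := by group
        _ = y * (z * y * z) := by rw [hzz, one_mul]
    have h2 : z * w ^ k * z = (w ^ k)⁻¹ := by
      have h3 : MulAut.conj z (w ^ k) = (MulAut.conj z w) ^ k := map_pow _ _ _
      simp only [MulAut.conj_apply, inv_eq_self hzz] at h3
      rw [h3, h1, inv_pow]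
    have h4 : z * δ * z = δ := by
      rw [hδ]
      calc z * (w ^ k * y) * z = (z * w ^ k * z) * ((z * y * z)) := by
            rw [show z * w ^ k * z * (z * y * z) = z * w ^ k * (z * z) * y * z by group, hzz]
            group
        _ = (w ^ k)⁻¹ * y' := by rw [h2, hy']
        _ = (w ^ k)⁻¹ * (w ^ k * w ^ k * y) := by rw [h2k, hwy]
        _ = w ^ k * y := by group
    show δ * z = z * δ
    calc δ * z = z * δ * z * z := by rw [h4]
      _ = z * δ * (z * z) := by group
      _ = z * δ := by rw [hzz, mul_one]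
  obtain ⟨hδx, hδc⟩ := h.lemmaA f.hx f.hc hδD f.ne f.com hδz
  have hzx : Commute z x := ((Commute.refl x).mul_left f.com.symm)
  have hzc : Commute z c := (f.com.mul_left (Commute.refl c))
  have hux : Commute u x := hzx.mul_left hδx
  have huc : Commute u c := hzc.mul_left hδc
  have huy' : Commute u y := by
    show u * y = y * u
    exact mul_inv_eq_iff_eq_mul.mp huy
  have huu : u * u = 1 := by
    rw [hu, hδz.mul_mul_mul_comm z δ, hzz, h.sq hδD, mul_one]
  obtain ⟨hS, hxH, hcH, hyH⟩ := closure3 f
  by_cases hH : Subgroup.closure {x, c, y} = ⊤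
  · have hu1 : u = 1 := by
      refine eq_one_of_central_sq M.core huu (mem_center_of_commute_gens hH ?_)
      rintro a (rfl | rfl | rfl)
      exacts [hux, huc, huy']
    have : z = δ := by
      rw [eq_inv_of_mul_eq_one_left hu1, h.inv' hδD]
    rw [this]
    exact hδD
  · exfalso
    have hzQ := fork_sub M.ih h hS hH f hxH hcH hyH
    have hwQ : w ∈ coreOf (Subgroup.closure {x, c, y}) := by
      rw [hw, hy']
      have h1 := mul_mem hzQ (coreOf_conjD h f.hy hyH hzQ)
      rwa [show x * c * (y * (x * c) * y) = z * y * z * y by rw [hz]; group] at h1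
    have hw1 := eq_one_of_two_group (coreOf_pgroup _) hwQ h.odd hwp
    apply hne
    rw [← hwy, hw1, one_mul]

theorem twin_of_mem {x c y : G} (f : Fork D x c y) (hzD : x * c ∈ D) {e : G} (he : e ∈ D)
    (hex : Commute e x) : Commute e c := by
  have h := M.hyp
  by_contra hec
  refine h.no_twice (r := e * c) (w := x) (hex.mul_left f.com.symm) (h.sq f.hx) (h.ne_one f.hx)
    (h.order he f.hc hec) he hzD ?_
  rw [← mul_assoc, hex.eq, mul_assoc]

theorem cubes {x c y : G} (f : Fork D x c y) (hne : (x * c) * y * (x * c) ≠ y)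
    (hcm : Commute ((x * c) * y * (x * c)) y) :
    (y * ((x * c) * y * (x * c))) * c * (y * ((x * c) * y * (x * c))) ≠ x := by
  have h := M.hyp
  intro he
  have hcxc : c * x * c = x := by rw [← f.com.eq, mul_assoc, h.sq f.hc, mul_one]
  have hxc' : x * c * x = c := by rw [f.com.eq, mul_assoc, h.sq f.hx, mul_one]
  set y' := (x * c) * y * (x * c) with hy'
  have hy'2 : y * y' = y' * y := hcm.symm.eq
  have h1 : y' * c * y' = c * x * y * c * y * x * c := by
    calc y' * c * y' = x * c * y * (x * c * c * (x * c)) * y * (x * c) := by rw [hy']; group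
      _ = x * c * y * c * y * (x * c) := by
          rw [show x * c * c * (x * c) = x * (c * c) * x * c by group, h.sq f.hc, mul_one,
            h.sq f.hx, one_mul]
      _ = c * x * y * c * y * x * c := by rw [f.com.eq]; nth_rewrite 2 [← f.com.eq]; group
  have h2 : y * (c * x * y * c * y * x * c) * y = x := by
    rw [← h1]
    calc y * (y' * c * y') * y = (y * y') * c * (y' * y) := by group
      _ = (y * y') * c * (y * y') := by rw [hy'2]
      _ = x := he
  have h3 : c * y * c * y * c = x * y * x * y * x := by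
    have h4 : y * c * x * y * c * y * x * c * y * x = 1 := by
      rw [show y * c * x * y * c * y * x * c * y * x = y * (c * x * y * c * y * x * c) * y * x by
        group, h2, h.sq f.hx]
    have h5 : (y * x) * (c * y * c * y * c) * (x * y * x) = 1 := by
      calc (y * x) * (c * y * c * y * c) * (x * y * x)
          = y * (x * c) * y * c * y * (c * x) * y * x := by group
        _ = y * (c * x) * y * c * y * (x * c) * y * x := by rw [f.com.eq]
        _ = 1 := by rw [← h4]; group
    have h6 : c * y * c * y * c = (y * x)⁻¹ * (x * y * x)⁻¹ := by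
      rw [eq_mul_inv_iff_mul_eq]
      exact (inv_eq_of_mul_eq_one_right (by rw [← mul_assoc]; exact h5)).symm
    rw [h6, mul_inv_rev, mul_inv_rev, mul_inv_rev, h.inv' f.hx, h.inv' f.hy]
    group
  have h7 : (x * y) ^ 3 = (c * y) ^ 3 := by
    rw [pow_succ, pow_succ, pow_one, pow_succ, pow_succ, pow_one]
    calc x * y * (x * y) * (x * y) = (x * y * x * y * x) * y := by group
      _ = (c * y * c * y * c) * y := by rw [h3]
      _ = c * y * (c * y) * (c * y) := by group
  have hp3 : ¬ p ∣ 3 := fun hd => by
    have := Nat.le_of_dvd (by norm_num) hd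
    have := h.five
    omega
  obtain ⟨j, -, hj⟩ := Nat.exists_mul_mod_eq_one_of_coprime
    (Nat.coprime_comm.mp (h.prime.coprime_iff_not_dvd.mpr hp3)) (by have := h.five; omega)
  have hpow : ∀ q : G, q ^ p = 1 → (q ^ 3) ^ j = q := fun q hq => by
    rw [← pow_mul, ← pow_mod_orderOf]
    have : orderOf q ∣ p := orderOf_dvd_of_pow_eq_one hq
    rw [← Nat.mod_mod_of_dvd _ this, hj, pow_mod_orderOf, pow_one]
  have := congrArg (· ^ j) h7
  simp only [hpow _ (h.pow_p f.hx f.hy f.ox), hpow _ (h.pow_p f.hc f.hy f.oc)] at this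
  exact f.ne (mul_right_cancel this)

theorem twin {x c y : G} (f : Fork D x c y) {e : G} (he : e ∈ D) (hex : Commute e x) :
    Commute e c := by
  have h := M.hyp
  rcases M.dichotomy f with hzD | ⟨hcm, hne⟩
  · exact M.twin_of_mem f hzD he hex
  by_contra hec
  have hzz := h.prod_sq f
  have hnx := M.cubes f hne hcm
  set z := x * c with hz
  set y' := z * y * z with hy'
  set T := y * y' with hT
  have hy'D : y' ∈ D := h.conjM hzz f.hy
  have hTT : T * T = 1 := (commute_iff_sq (h.sq f.hy) (h.sq hy'D)).mp hcm.symm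
  have hTz : Commute T z := by
    show T * z = z * T
    calc T * z = y * y' * z := by rw [hT]
      _ = y * z * y * (z * z) := by rw [hy']; group
      _ = (z * z) * (y * z * y) := by rw [hzz, mul_one, one_mul]
      _ = z * (z * y * z) * y := by group
      _ = z * (y' * y) := by rw [hy']; group
      _ = z * T := by rw [hT, hcm.eq]
  set c' := T * c * T with hc'
  set x' := T * x * T with hx'
  have hc'D : c' ∈ D := h.conjM hTT f.hc
  have hx'D : x' ∈ D := h.conjM hTT f.hx
  have hz' : x' * c' = z := by
    calc x' * c' = T * x * (T * T) * c * T := by rw [hx', hc']; group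
      _ = T * (x * c) * T := by rw [hTT, mul_one]; group
      _ = z * T * T := by rw [← hz, hTz.eq]
      _ = z := by rw [mul_assoc, hTT, mul_one]
  have hzc : Commute z c := f.com.mul_left (Commute.refl c)
  have hzx : Commute z x := (Commute.refl x).mul_left f.com.symm
  have hTconj : ∀ a, Commute z a → Commute (T * a * T) z := fun a ha =>
    (hTz.mul_left ha.symm).mul_left hTz
  obtain ⟨hc'x, hc'c⟩ := h.lemmaA f.hx f.hc hc'D f.ne f.com (hTconj c hzc)
  obtain ⟨hx'x, hx'c⟩ := h.lemmaA f.hx f.hc hx'D f.ne f.com (hTconj x hzx)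
  have hcc' : c' ≠ c := by
    intro h1
    have hcT : Commute c T := by
      show c * T = T * c
      calc c * T = T * c * T * T := by rw [← hc', h1]
        _ = T * c * (T * T) := by group
        _ = T * c := by rw [hTT, mul_one]
    exact f.oc (h.lemmaA f.hy hy'D f.hc hne.symm hcm.symm hcT).1
  have hc'nx : c' ≠ x := hnx
  have hxx' : x' ≠ x := by
    intro h1
    apply hcc'
    rw [h1] at hz'
    exact mul_left_cancel (hz'.trans hz)
  have hx'nc : x' ≠ c := by
    intro h1
    apply hc'nx
    rw [h1, hz, f.com.eq] at hz'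
    exact mul_left_cancel hz'
  have hprod : c' = x' * (x * c) := by rw [← hz, ← hz', ← mul_assoc, h.sq hx'D, one_mul]
  have hcc : c' * c = x' * x := by
    rw [hprod, show x' * (x * c) * c = x' * x * (c * c) by group, h.sq f.hc, mul_one]
  have hex' : ¬ Commute e x' := by
    intro h1
    have h2 : Commute e (c' * c) := by rw [hcc]; exact h1.mul_right hex
    exact hec (h.lemmaA hc'D f.hc he hcc' hc'c h2).2
  have hec' : ¬ Commute e c' := by
    intro h1
    have h2 : Commute e (x' * c) := by
      have h3 : x' * c = x * c' := by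
        rw [hprod, ← mul_assoc, ← hx'x.eq, mul_assoc x', ← mul_assoc x x c, h.sq f.hx, one_mul]
      rw [h3]; exact hex.mul_right h1
    exact hec (h.lemmaA hx'D f.hc he hx'nc hx'c h2).2
  set S := {d ∈ D | Commute d x} with hS
  have hSD : S ⊆ D := fun d hd => hd.1
  have hHne : Subgroup.closure S ≠ ⊤ := by
    intro htop
    refine not_central_of_mem h M.gen M.core f.hx fun d _ => ?_
    have := mem_center_of_commute_gens htop (g := x) fun a ha => ha.2.symm
    exact (Subgroup.mem_center_iff.mp this d).symm
  have hmem : ∀ d ∈ D, Commute d x → d ∈ Subgroup.closure S := fun d hd hdx =>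
    Subgroup.subset_closure ⟨hd, hdx⟩
  have h1 := fork_sub M.ih h hSD hHne
    (⟨f.hc, hc'D, he, hcc'.symm, hc'c.symm, fun hh => hec hh.symm, fun hh => hec' hh.symm⟩ :
      Fork D c c' e) (hmem c f.hc f.com.symm) (hmem c' hc'D hc'x) (hmem e he hex)
  have h2 := fork_sub M.ih h hSD hHne
    (⟨f.hc, hx'D, he, hx'nc.symm, hx'c.symm, fun hh => hec hh.symm, fun hh => hex' hh.symm⟩ :
      Fork D c x' e) (hmem c f.hc f.com.symm) (hmem x' hx'D hx'x) (hmem e he hex)
  have hzQ : z ∈ coreOf (Subgroup.closure S) := by
    have h3 := mul_mem (Subgroup.inv_mem _ h2) h1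
    rw [mul_inv_rev, h.inv' f.hc, h.inv' hx'D,
      show x' * c * (c * c') = x' * (c * c) * c' by group, h.sq f.hc, mul_one] at h3
    rwa [hz'] at h3
  refine M.fork_sq_not (coreOf_pgroup (Subgroup.closure S)) he f.hc hec ?_
  have h4 := mul_mem (coreOf_conjD h he (hmem e he hex) hzQ) hzQ
  have hczx : c = x * z := by rw [hz, ← mul_assoc, h.sq f.hx, one_mul]
  have : (e * c) * (e * c) = e * z * e * z := by
    rw [hczx]
    calc e * (x * z) * (e * (x * z)) = e * (x * z) * e * (x * z) := by group
      _ = e * (z * x) * e * (x * z) := by rw [hzx.eq]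
      _ = e * z * ((x * e) * x) * z := by group
      _ = e * z * ((e * x) * x) * z := by rw [hex.eq]
      _ = e * z * e * z := by rw [mul_assoc e x x, h.sq f.hx, mul_one]
  rw [this]
  exact h4

theorem twins {x c y : G} (f : Fork D x c y) {e : G} (he : e ∈ D) :
    Commute e x ↔ Commute e c :=
  ⟨M.twin f he, M.twin f.symm he⟩

end Minimal

end Cfsg.Agent.Fus.OneOddOrder
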